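import Cfsg.Prelude.Def_Classical

/-!
# The unitary groups with respect to the antidiagonal form (S4579, TL-5)

`K` a field, `τ : K →+* K` (an involution). `sh τ A` is the matrix `(τ (A (rev j) (rev i)))_{ij}`, i.e.
`J (τ A)ᵀ J` with `J` the antidiagonal matrix. `GUJ`, `SUJ`, the diagonal, monomial and unitriangular matrices are all
subgroups of `GL (Fin n) K`.
-/

set_option autoImplicit false

namespace Cfsg.Agent.H835.Sd

open Matrix

variable {n : ℕ} {K : Type*} [Field K]

/-- `A^♯ = J (τ A)ᵀ J` -/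
def sh (τ : K →+* K) (A : Matrix (Fin n) (Fin n) K) : Matrix (Fin n) (Fin n) K :=
  Matrix.of fun i j => τ (A j.rev i.rev)

@[simp] theorem sh_apply (τ : K →+* K) (A : Matrix (Fin n) (Fin n) K) (i j : Fin n) :
    sh τ A i j = τ (A j.rev i.rev) := rfl

theorem sh_mul (τ : K →+* K) (A B : Matrix (Fin n) (Fin n) K) : sh τ (A * B) = sh τ B * sh τ A := by
  ext i j
  rw [sh_apply, mul_apply, mul_apply, map_sum, ← Equiv.sum_comp Fin.revPerm]
  refine Finset.sum_congr rfl fun k _ => ?_
  rw [sh_apply, sh_apply, map_mul, mul_comm, Fin.revPerm_apply]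

@[simp] theorem sh_one (τ : K →+* K) : sh τ (1 : Matrix (Fin n) (Fin n) K) = 1 := by
  ext i j
  rw [sh_apply, one_apply, one_apply]
  by_cases h : i = j
  · subst h; simp
  · have : j.rev ≠ i.rev := fun e => h (Fin.rev_injective e).symm
    simp [h, this]

/-- The unitary group with respect to the antidiagonal form: `g g^♯ = 1`. -/
def GUJ (n : ℕ) {K : Type*} [Field K] (τ : K →+* K) : Subgroup (GL (Fin n) K) where
  carrier := {g | (g : Matrix (Fin n) (Fin n) K) * sh τ g = 1}
  mul_mem' := by
    intro a b ha hb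
    rw [Set.mem_ofPred_eq] at *
    rw [Units.val_mul, sh_mul, Matrix.mul_assoc, ← Matrix.mul_assoc _ (sh τ _), hb, Matrix.one_mul, ha]
  one_mem' := by simp
  inv_mem' := by
    intro a ha
    rw [Set.mem_ofPred_eq] at *
    have h1 : (a : Matrix (Fin n) (Fin n) K) * ((a⁻¹ : GL (Fin n) K) : Matrix (Fin n) (Fin n) K) = 1 :=
      Units.mul_inv a
    have h2 : sh τ ((a⁻¹ : GL (Fin n) K) : Matrix (Fin n) (Fin n) K) * sh τ (a : Matrix (Fin n) (Fin n) K) = 1 := by
      rw [← sh_mul, h1, sh_one]
    have h3 : ((a⁻¹ : GL (Fin n) K) : Matrix (Fin n) (Fin n) K) = sh τ (a : Matrix (Fin n) (Fin n) K) := by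
      have h4 := congrArg (fun x => ((a⁻¹ : GL (Fin n) K) : Matrix (Fin n) (Fin n) K) * x) ha
      simpa [← Matrix.mul_assoc] using h4.symm
    rw [h3] at h2 ⊢
    have h5 : sh τ (sh τ (a : Matrix (Fin n) (Fin n) K)) * sh τ (a : Matrix (Fin n) (Fin n) K) = 1 := h2
    exact mul_eq_one_comm.1 h5

theorem mem_GUJ {τ : K →+* K} {g : GL (Fin n) K} :
    g ∈ GUJ n τ ↔ (g : Matrix (Fin n) (Fin n) K) * sh τ g = 1 := Iff.rfl

theorem mem_GUJ' {τ : K →+* K} {g : GL (Fin n) K} :
    g ∈ GUJ n τ ↔ sh τ g * (g : Matrix (Fin n) (Fin n) K) = 1 := by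
  rw [mem_GUJ]; exact mul_eq_one_comm

/-- The special unitary group with respect to the antidiagonal form. -/
def SUJ (n : ℕ) {K : Type*} [Field K] (τ : K →+* K) : Subgroup (GL (Fin n) K) :=
  GUJ n τ ⊓ (Matrix.GeneralLinearGroup.det (n := Fin n) (R := K)).ker

theorem mem_SUJ {τ : K →+* K} {g : GL (Fin n) K} :
    g ∈ SUJ n τ ↔ g ∈ GUJ n τ ∧ (g : Matrix (Fin n) (Fin n) K).det = 1 := by
  rw [SUJ, Subgroup.mem_inf, MonoidHom.mem_ker, Units.ext_iff]
  rfl

/-- diagonal matrices -/
def Dia (n : ℕ) (K : Type*) [Field K] : Subgroup (GL (Fin n) K) where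
  carrier := {g | ∀ i j, i ≠ j → (g : Matrix (Fin n) (Fin n) K) i j = 0}
  mul_mem' := by
    intro a b ha hb i j hij
    rw [Units.val_mul, mul_apply]
    refine Finset.sum_eq_zero fun k _ => ?_
    by_cases h : i = k
    · subst h; rw [hb _ _ hij, mul_zero]
    · rw [ha _ _ h, zero_mul]
  one_mem' := fun i j hij => by simp [hij]
  inv_mem' := by
    intro a ha i j hij
    have h1 : ∀ i, (a : Matrix (Fin n) (Fin n) K) i i *
        ((a⁻¹ : GL (Fin n) K) : Matrix (Fin n) (Fin n) K) i i = 1 := by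
      intro i
      have h2 := congrFun (congrFun (Units.mul_inv a) i) i
      rw [mul_apply, Finset.sum_eq_single i, one_apply_eq] at h2
      · exact h2
      · intro k _ hk; rw [ha _ _ hk.symm, zero_mul]
      · simp
    have h2 := congrFun (congrFun (Units.mul_inv a) i) j
    rw [mul_apply, Finset.sum_eq_single i, one_apply_ne hij] at h2
    · exact (mul_eq_zero.1 h2).resolve_left (left_ne_zero_of_mul_eq_one (h1 i))
    · intro k _ hk; rw [ha _ _ hk.symm, zero_mul]
    · simp

theorem mem_Dia {g : GL (Fin n) K} :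
    g ∈ Dia n K ↔ ∀ i j, i ≠ j → (g : Matrix (Fin n) (Fin n) K) i j = 0 := Iff.rfl

/-- upper unitriangular matrices -/
def Uni (n : ℕ) (K : Type*) [Field K] : Subgroup (GL (Fin n) K) where
  carrier := {g | ∀ i j, j ≤ i → (g : Matrix (Fin n) (Fin n) K) i j = if i = j then 1 else 0}
  mul_mem' := by
    intro a b ha hb i j hij
    rw [Units.val_mul, mul_apply]
    have h : ∀ k, (a : Matrix (Fin n) (Fin n) K) i k * (b : Matrix (Fin n) (Fin n) K) k j =
        if i = k ∧ k = j then 1 else 0 := by
      intro k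
      rcases le_or_gt k i with h1 | h1
      · rw [ha _ _ h1]
        by_cases h2 : i = k
        · subst h2
          rw [if_pos rfl, one_mul, hb _ _ hij]
          simp
        · rw [if_neg h2, zero_mul, if_neg fun h => h2 h.1]
      · rw [hb _ _ (hij.trans h1.le), if_neg (by rintro rfl; exact absurd (h1.trans_le hij) (lt_irrefl _)), mul_zero,
          if_neg (by rintro ⟨rfl, -⟩; exact lt_irrefl _ h1)]
    rw [Finset.sum_congr rfl fun k _ => h k]
    by_cases h1 : i = j
    · subst h1
      rw [if_pos rfl, Finset.sum_eq_single i]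
      · simp
      · intro k _ hk; rw [if_neg fun h => hk h.1.symm]
      · simp
    · rw [if_neg h1]
      refine Finset.sum_eq_zero fun k _ => if_neg fun h => h1 (h.1.trans h.2)
  one_mem' := fun i j _ => by simp [one_apply]
  inv_mem' := by
    intro a ha
    have hb : BlockTriangular (a : Matrix (Fin n) (Fin n) K) id := fun i j hij =>
      (ha i j (le_of_lt hij)).trans (if_neg (ne_of_gt hij))
    have hi : Invertible (a : Matrix (Fin n) (Fin n) K) := a.invertible
    have hc : BlockTriangular ((a⁻¹ : GL (Fin n) K) : Matrix (Fin n) (Fin n) K) id := by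
      rw [Matrix.coe_units_inv]
      exact blockTriangular_inv_of_blockTriangular hb
    intro i j hij
    rcases eq_or_lt_of_le hij with h | h
    · subst h
      have h2 := congrFun (congrFun (Units.mul_inv a) j) j
      rw [mul_apply, Finset.sum_eq_single j, one_apply_eq, ha _ _ le_rfl, if_pos rfl, one_mul] at h2
      · rw [h2, if_pos rfl]
      · intro k _ hk
        rcases lt_or_gt_of_ne hk with h3 | h3
        · rw [ha _ _ h3.le, if_neg h3.ne', zero_mul]
        · rw [hc h3, mul_zero]
      · simp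
    · rw [if_neg (ne_of_gt h)]
      exact hc h

theorem mem_Uni {g : GL (Fin n) K} :
    g ∈ Uni n K ↔ ∀ i j, j ≤ i → (g : Matrix (Fin n) (Fin n) K) i j = if i = j then 1 else 0 := Iff.rfl

/-- the image of the unitriangular subgroup of `SUJ` in a quotient `S` -/
def US {S : Type*} [Group S] {τ : K →+* K} (π : SUJ n τ →* S) : Subgroup S :=
  ((Uni n K).subgroupOf (SUJ n τ)).map π

/-- the image of the diagonal subgroup (split torus) of `SUJ` in a quotient `S` -/
def TS {S : Type*} [Group S] {τ : K →+* K} (π : SUJ n τ →* S) : Subgroup S :=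
  ((Dia n K).subgroupOf (SUJ n τ)).map π

end Cfsg.Agent.H835.Sd
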