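import Cfsg.Agent.H835.Sd.Weyl
import Cfsg.Prelude.Def_Classical

/-!
# `SU n K q` is isomorphic to `SUJ n τ` (S4579, TL-5)
-/

set_option autoImplicit false

namespace Cfsg.Agent.H835.Sd

open Matrix

variable {n : ℕ} {K : Type*} [Field K]

/-- conjugate transpose -/
def st (τ : K →+* K) (A : Matrix (Fin n) (Fin n) K) : Matrix (Fin n) (Fin n) K := (A.map τ)ᵀ

theorem st_apply (τ : K →+* K) (A : Matrix (Fin n) (Fin n) K) (i j : Fin n) : st τ A i j = τ (A j i) := rfl

theorem st_mul (τ : K →+* K) (A B : Matrix (Fin n) (Fin n) K) : st τ (A * B) = st τ B * st τ A := by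
  rw [st, Matrix.map_mul, transpose_mul]; rfl

theorem st_one (τ : K →+* K) : st τ (1 : Matrix (Fin n) (Fin n) K) = 1 := by
  rw [st, Matrix.map_one _ (map_zero τ) (map_one τ), transpose_one]

/-- the antidiagonal matrix -/
def Jm (n : ℕ) (K : Type*) [Field K] : Matrix (Fin n) (Fin n) K := Matrix.of fun i j => if i = j.rev then 1 else 0

theorem Jm_apply (i j : Fin n) : Jm n K i j = if i = j.rev then 1 else 0 := rfl

theorem Jm_mul (A : Matrix (Fin n) (Fin n) K) (i j : Fin n) : (Jm n K * A) i j = A i.rev j := by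
  rw [mul_apply, Finset.sum_eq_single i.rev]
  · rw [Jm_apply, Fin.rev_rev, if_pos rfl, one_mul]
  · intro k _ hk
    rw [Jm_apply, if_neg (fun e => hk (by rw [e, Fin.rev_rev])), zero_mul]
  · simp

theorem mul_Jm (A : Matrix (Fin n) (Fin n) K) (i j : Fin n) : (A * Jm n K) i j = A i j.rev := by
  rw [mul_apply, Finset.sum_eq_single j.rev]
  · rw [Jm_apply, if_pos rfl, mul_one]
  · intro k _ hk
    rw [Jm_apply, if_neg hk, mul_zero]
  · simp

theorem Jm_sq : Jm n K * Jm n K = 1 := by
  ext i j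
  rw [Jm_mul, Jm_apply, one_apply]
  by_cases h : i = j
  · rw [if_pos h, if_pos (by rw [h])]
  · rw [if_neg h, if_neg (fun e => h (Fin.rev_injective e))]

theorem sh_eq (τ : K →+* K) (A : Matrix (Fin n) (Fin n) K) : sh τ A = Jm n K * st τ A * Jm n K := by
  ext i j
  rw [mul_Jm, Jm_mul]; rfl

theorem mem_SU_iff' {τ : K →+* K} {q : ℕ} (hs : ∀ x, τ x = x ^ q) (g : SpecialLinearGroup (Fin n) K) :
    g ∈ Cfsg.SU n K q ↔ st τ (g : Matrix (Fin n) (Fin n) K) * (g : Matrix (Fin n) (Fin n) K) = 1 := by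
  have hform : ∀ u v : Fin n → K, Cfsg.hermForm n K q u v = u ⬝ᵥ (fun i => τ (v i)) := by
    intro u v
    simp only [Cfsg.hermForm, dotProduct, hs]
  have hmv : ∀ v : Fin n → K, (fun i => τ (((g : Matrix (Fin n) (Fin n) K) *ᵥ v) i)) =
      (g : Matrix (Fin n) (Fin n) K).map τ *ᵥ (fun i => τ (v i)) := by
    intro v
    funext i
    simp [Matrix.mulVec, dotProduct, map_sum, map_mul]
  have key : ∀ u v : Fin n → K, Cfsg.hermForm n K q ((g : Matrix (Fin n) (Fin n) K) *ᵥ u)
      ((g : Matrix (Fin n) (Fin n) K) *ᵥ v) = u ⬝ᵥ (((g : Matrix (Fin n) (Fin n) K)ᵀ *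
        (g : Matrix (Fin n) (Fin n) K).map τ) *ᵥ (fun i => τ (v i))) := by
    intro u v
    rw [hform, hmv, ← Matrix.mulVec_mulVec, Matrix.dotProduct_mulVec u, Matrix.vecMul_transpose]
  have htr : st τ (g : Matrix (Fin n) (Fin n) K) * (g : Matrix (Fin n) (Fin n) K) =
      ((g : Matrix (Fin n) (Fin n) K)ᵀ * (g : Matrix (Fin n) (Fin n) K).map τ)ᵀ := by
    rw [transpose_mul, transpose_transpose]; rfl
  rw [htr]
  constructor
  · intro h
    rw [transpose_eq_one]
    ext i j
    have h1 := h (Pi.single i 1) (Pi.single j 1)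
    change Cfsg.hermForm n K q ((g : Matrix (Fin n) (Fin n) K) *ᵥ _)
      ((g : Matrix (Fin n) (Fin n) K) *ᵥ _) = _ at h1
    rw [key, hform] at h1
    have h2 : (fun k => τ ((Pi.single j 1 : Fin n → K) k)) = Pi.single j 1 := by
      funext k
      by_cases hk : k = j
      · subst hk; simp
      · simp [hk]
    rw [h2] at h1
    simpa [Matrix.one_apply, Pi.single_apply, eq_comm] using h1
  · intro h u v
    change Cfsg.hermForm n K q ((g : Matrix (Fin n) (Fin n) K) *ᵥ _)
      ((g : Matrix (Fin n) (Fin n) K) *ᵥ _) = _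
    rw [transpose_eq_one] at h
    rw [key, h, one_mulVec, hform]

/-- the transition matrix -/
def Qm (n : ℕ) {K : Type*} [Field K] (a : K) : Matrix (Fin n) (Fin n) K := Matrix.of fun i j =>
  if i = i.rev then (if j = i then 1 else 0)
  else if i < i.rev then (if j = i then 1 else if j = i.rev then a else 0)
  else (if j = i then -a / 2 else if j = i.rev then 1 / 2 else 0)

theorem Qm_zero (a : K) {i j : Fin n} (h1 : j ≠ i) (h2 : j ≠ i.rev) : Qm n a i j = 0 := by
  change (if i = i.rev then (if j = i then (1 : K) else 0)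
    else if i < i.rev then (if j = i then 1 else if j = i.rev then a else 0)
    else (if j = i then -a / 2 else if j = i.rev then 1 / 2 else 0)) = 0
  simp [h1, h2]

theorem Qm_center (a : K) {i : Fin n} (h : i = i.rev) : Qm n a i i = 1 := by
  change (if i = i.rev then (if i = i then (1 : K) else 0) else _) = 1
  rw [if_pos h, if_pos rfl]

theorem Qm_lt (a : K) {i : Fin n} (h : i < i.rev) : Qm n a i i = 1 ∧ Qm n a i i.rev = a := by
  constructor
  · change (if i = i.rev then (if i = i then (1 : K) else 0) else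
      if i < i.rev then (if i = i then 1 else if i = i.rev then a else 0) else _) = 1
    rw [if_neg h.ne, if_pos h, if_pos rfl]
  · change (if i = i.rev then (if i.rev = i then (1 : K) else 0) else
      if i < i.rev then (if i.rev = i then 1 else if i.rev = i.rev then a else 0) else _) = a
    rw [if_neg h.ne, if_pos h, if_neg h.ne', if_pos rfl]

theorem Qm_gt (a : K) {i : Fin n} (h : i.rev < i) : Qm n a i i = -a / 2 ∧ Qm n a i i.rev = 1 / 2 := by
  constructor
  · change (if i = i.rev then (if i = i then (1 : K) else 0) else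
      if i < i.rev then (if i = i then 1 else if i = i.rev then a else 0) else
      (if i = i then -a / 2 else if i = i.rev then 1 / 2 else 0)) = -a / 2
    rw [if_neg h.ne', if_neg h.not_gt, if_pos rfl]
  · change (if i = i.rev then (if i.rev = i then (1 : K) else 0) else
      if i < i.rev then (if i.rev = i then 1 else if i.rev = i.rev then a else 0) else
      (if i.rev = i then -a / 2 else if i.rev = i.rev then 1 / 2 else 0)) = 1 / 2
    rw [if_neg h.ne', if_neg h.not_gt, if_neg h.ne, if_pos rfl]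

theorem Qm_gram {τ : K →+* K} {a : K} (ha : a * τ a = -1) (h2 : (2 : K) ≠ 0) : Qm n a * st τ (Qm n a) = Jm n K := by
  ext i j
  rw [mul_apply, Jm_apply]
  by_cases hi : i = i.rev
  · rw [Finset.sum_eq_single i, Qm_center a hi, one_mul, st_apply]
    · by_cases hij : i = j
      · rw [← hij, Qm_center a hi, map_one, if_pos hi]
      · have h1 : i ≠ j.rev := fun e => hij (by rw [hi] at e; exact Fin.rev_injective e)
        rw [Qm_zero a hij h1, map_zero, if_neg h1]
    · intro k _ hk
      rw [Qm_zero a hk (by rw [← hi]; exact hk), zero_mul]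
    · simp
  · have e : ∑ k, Qm n a i k * st τ (Qm n a) k j = Qm n a i i * τ (Qm n a j i) + Qm n a i i.rev * τ (Qm n a j i.rev) := by
      rw [Fintype.sum_eq_add i i.rev hi]
      · rfl
      · intro k hk
        rw [Qm_zero a hk.1 hk.2, zero_mul]
    rw [e]
    by_cases hij : i = j
    · subst hij
      rw [if_neg hi]
      rcases lt_or_gt_of_ne hi with h | h
      · rw [(Qm_lt a h).1, (Qm_lt a h).2, map_one, ha]; ring
      · rw [(Qm_gt a h).1, (Qm_gt a h).2, map_div₀, map_div₀, map_one, map_neg, map_ofNat]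
        field_simp
        linear_combination ha
    · by_cases hij' : i = j.rev
      · have hj : j = i.rev := by rw [hij', Fin.rev_rev]
        subst hj
        rw [if_pos hij']
        rcases lt_or_gt_of_ne hi with h | h
        · have h' : (i.rev).rev < i.rev := by rwa [Fin.rev_rev]
          have e1 := (Qm_gt a h').1
          have e2 := (Qm_gt a h').2
          rw [Fin.rev_rev] at e2
          rw [(Qm_lt a h).1, (Qm_lt a h).2, e1, e2, map_div₀, map_div₀, map_one, map_neg, map_ofNat]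
          field_simp
          linear_combination (-1 : K) * ha
        · have h' : i.rev < (i.rev).rev := by rwa [Fin.rev_rev]
          have e1 := (Qm_lt a h').1
          have e2 := (Qm_lt a h').2
          rw [Fin.rev_rev] at e2
          rw [(Qm_gt a h).1, (Qm_gt a h).2, e1, e2, map_one]
          field_simp
          linear_combination (-1 : K) * ha
      · have h1 : i.rev ≠ j := fun e => hij' (by rw [← e, Fin.rev_rev])
        have h2 : i.rev ≠ j.rev := fun e => hij (Fin.rev_injective e)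
        rw [Qm_zero a hij hij', Qm_zero a h1 h2, if_neg hij', map_zero]; ring

theorem st_det (τ : K →+* K) (A : Matrix (Fin n) (Fin n) K) : (st τ A).det = τ A.det := by
  rw [st, det_transpose, ← RingHom.mapMatrix_apply, ← RingHom.map_det]

variable [Finite K] {τ : K →+* K} {q : ℕ}

theorem SU_equiv (h : Frob τ q) : Nonempty (Cfsg.SU n K q ≃* SUJ n τ) := by
  obtain ⟨a, -, ha⟩ := h.exists_norm (b := (-1 : K)) (neg_ne_zero.2 one_ne_zero) (by rw [map_neg, map_one])
  have hg := Qm_gram (n := n) ha h.two_ne_zero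
  have hdet : (Qm n a).det ≠ 0 := by
    intro h0
    have h1 := congrArg Matrix.det hg
    rw [det_mul, h0, zero_mul] at h1
    have h2 : (Jm n K).det * (Jm n K).det = 1 := by rw [← det_mul, Jm_sq, det_one]
    rw [← h1, zero_mul] at h2
    exact zero_ne_one h2
  let Q : GL (Fin n) K := Matrix.GeneralLinearGroup.mkOfDetNeZero (Qm n a) hdet
  have hQ : Q.1 = Qm n a := rfl
  have hQQ : Q.1 * st τ Q.1 = Jm n K := hg
  have hQi : st τ Q.1 * st τ (Q⁻¹).1 = 1 := by rw [← st_mul, Units.inv_mul, st_one]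
  have hQj : (Q⁻¹).1 * Jm n K = st τ Q.1 := by rw [← hQQ, ← Matrix.mul_assoc, Units.inv_mul, Matrix.one_mul]
  have hJi : Jm n K * st τ (Q⁻¹).1 = Q.1 := by rw [← hQQ, Matrix.mul_assoc, hQi, Matrix.mul_one]
  -- membership
  have key : ∀ A : GL (Fin n) K, Q * A * Q⁻¹ ∈ GUJ n τ ↔ st τ A.1 * A.1 = 1 := by
    intro A
    rw [mem_GUJ, sh_eq]
    have e1 : st τ (Q * A * Q⁻¹).1 = st τ (Q⁻¹).1 * st τ A.1 * st τ Q.1 := by
      rw [Units.val_mul, Units.val_mul, st_mul, st_mul, Matrix.mul_assoc]
    have e2 : (Q * A * Q⁻¹).1 * (Jm n K * st τ (Q * A * Q⁻¹).1 * Jm n K) =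
        Q.1 * (A.1 * st τ A.1) * (Q⁻¹).1 := by
      have e3 : st τ Q.1 * Jm n K = (Q⁻¹).1 := by
        rw [← hQj, Matrix.mul_assoc, Jm_sq, Matrix.mul_one]
      rw [e1]
      calc (Q * A * Q⁻¹).1 * (Jm n K * (st τ (Q⁻¹).1 * st τ A.1 * st τ Q.1) * Jm n K)
          = Q.1 * A.1 * ((Q⁻¹).1 * (Jm n K * st τ (Q⁻¹).1)) * st τ A.1 * (st τ Q.1 * Jm n K) := by
            rw [Units.val_mul, Units.val_mul]; simp only [Matrix.mul_assoc]
        _ = Q.1 * (A.1 * st τ A.1) * (Q⁻¹).1 := by
            rw [hJi, Units.inv_mul, e3, Matrix.mul_one]; simp only [Matrix.mul_assoc]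
    rw [e2]
    constructor
    · intro h1
      have h2 : A.1 * st τ A.1 = 1 := by
        have h3 : (Q⁻¹).1 * (Q.1 * (A.1 * st τ A.1) * (Q⁻¹).1) * Q.1 = (Q⁻¹).1 * 1 * Q.1 := by rw [h1]
        have h4 : (Q⁻¹).1 * (Q.1 * (A.1 * st τ A.1) * (Q⁻¹).1) * Q.1 = A.1 * st τ A.1 := by
          calc (Q⁻¹).1 * (Q.1 * (A.1 * st τ A.1) * (Q⁻¹).1) * Q.1
              = ((Q⁻¹).1 * Q.1) * (A.1 * st τ A.1) * ((Q⁻¹).1 * Q.1) := by simp only [Matrix.mul_assoc]
            _ = _ := by rw [Units.inv_mul, Matrix.one_mul, Matrix.mul_one]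
        rw [← h4, h3, Matrix.mul_one, Units.inv_mul]
      exact mul_eq_one_comm.1 h2
    · intro h1
      rw [mul_eq_one_comm.1 h1, Matrix.mul_one, Units.mul_inv]
  let f : Cfsg.SU n K q →* GL (Fin n) K :=
    (MulAut.conj Q).toMonoidHom.comp ((SpecialLinearGroup.toGL).comp (Cfsg.SU n K q).subtype)
  have hf : ∀ A : Cfsg.SU n K q, f A = Q * SpecialLinearGroup.toGL A.1 * Q⁻¹ := fun _ => rfl
  have hfm : ∀ A : Cfsg.SU n K q, f A ∈ SUJ n τ := by
    intro A
    rw [mem_SUJ]
    refine ⟨?_, ?_⟩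
    · rw [hf, key]
      exact (mem_SU_iff' h.ap A.1).1 A.2
    · rw [hf, Units.val_mul, Units.val_mul, det_mul, det_mul, mul_right_comm, ← det_mul, Units.mul_inv, det_one,
        one_mul]
      exact A.1.2
  let g : Cfsg.SU n K q →* SUJ n τ := f.codRestrict _ hfm
  refine ⟨MulEquiv.ofBijective g ⟨?_, ?_⟩⟩
  · intro A B e
    have e1 : f A = f B := congrArg Subtype.val e
    rw [hf, hf] at e1
    have e2 : SpecialLinearGroup.toGL A.1 = SpecialLinearGroup.toGL B.1 := by
      have := mul_right_cancel e1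
      exact mul_left_cancel this
    apply Subtype.ext
    apply Subtype.ext
    exact congrArg Units.val e2
  · rintro ⟨B, hB⟩
    rw [mem_SUJ] at hB
    have h1 : (Q⁻¹ * B * Q).1.det = 1 := by
      rw [Units.val_mul, Units.val_mul, det_mul, det_mul, mul_right_comm, ← det_mul, Units.inv_mul, det_one,
        one_mul]
      exact hB.2
    let A : SpecialLinearGroup (Fin n) K := ⟨(Q⁻¹ * B * Q).1, h1⟩
    have hA : SpecialLinearGroup.toGL A = Q⁻¹ * B * Q := Units.ext rfl
    have hAm : A ∈ Cfsg.SU n K q := by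
      rw [mem_SU_iff' h.ap]
      have h2 := (key (Q⁻¹ * B * Q)).1 (by
        have e : Q * (Q⁻¹ * B * Q) * Q⁻¹ = B := by group
        rw [e]; exact hB.1)
      exact h2
    refine ⟨⟨A, hAm⟩, ?_⟩
    apply Subtype.ext
    change f ⟨A, hAm⟩ = B
    rw [hf]
    change Q * SpecialLinearGroup.toGL A * Q⁻¹ = B
    rw [hA]; group

end Cfsg.Agent.H835.Sd
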