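import Cfsg.Agent.H835.Sd.Mod
import Cfsg.Agent.H150.Toral.Clif
import Cfsg.Agent.H150.Toral.Bridge

/-!
# The number of common constituents for `PSU` is odd (S4579, TL-5)
-/

set_option autoImplicit false

namespace Cfsg.Agent.H835.Sd

open Matrix Cfsg Cfsg.Agent.H150.Toral Cfsg.Agent.H55.Sd

universe u

theorem lin_of {S : Type u} [Group S] {U T N : Subgroup S} (h : Sys U T N) {B : Subgroup S} (hB : h.B = B)
    {σ : B →* ℂˣ} (hσ : TorChar B U T N σ) :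
    ∃ s : T →* ℂˣ, (∃ k : ℕ, ∀ t, s t ^ 2 ^ k = 1) ∧ Odd (orb T N s).ncard ∧
      ∀ [Fintype S], indFun h.B (fun x => (h.lin s x : ℂ)) = indFun B (fun b => (σ b : ℂ)) := by
  subst hB
  let s : T →* ℂˣ := σ.comp (Subgroup.inclusion h.T_le)
  have hs : ∀ t : T, s t = σ ⟨t, h.T_le t.2⟩ := fun _ => rfl
  have hlin : h.lin s = σ := by
    ext b
    obtain ⟨u, hu, e⟩ := h.pr_spec b
    rw [h.lin_eq s hu e, hs]
    have h1 : b = ⟨u, h.U_le hu⟩ * ⟨h.pr b, h.T_le (h.pr b).2⟩ := Subtype.ext e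
    conv_rhs => rw [h1]
    rw [map_mul, hσ.triv u hu (h.U_le hu), one_mul]
  have horb : orb T N s = conjSet h.B T N σ := by
    ext τ
    constructor
    · rintro ⟨n, hn, hc⟩
      refine ⟨n⁻¹, N.inv_mem hn, fun t ht => ?_⟩
      have h1 : n⁻¹ * (t : S) * n ∈ T := h.NT' hn t.2
      rw [hc t ⟨_, h1⟩ rfl, hs]
      congr 1
      apply Subtype.ext
      change n⁻¹ * (t : S) * n = n⁻¹ * t * n⁻¹⁻¹
      rw [inv_inv]
    · rintro ⟨n, hn, hc⟩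
      refine ⟨n⁻¹, N.inv_mem hn, fun a b hab => ?_⟩
      rw [inv_inv] at hab
      have h1 : n * (a : S) * n⁻¹ ∈ h.B := h.T_le (h.NT n hn a a.2)
      rw [hc a h1, hs]
      congr 1
      exact Subtype.ext hab.symm
  obtain ⟨k, hk⟩ := hσ.two
  refine ⟨s, ⟨k, fun t => hk _⟩, ?_, ?_⟩
  · rw [horb]
    have := hσ.odd
    rwa [Nat.card_coe_set_eq] at this
  · intro _
    rw [hlin]

variable {n : ℕ} {K : Type u} [Field K] [Finite K] {τ : K →+* K} {q : ℕ}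

omit [Finite K] in
theorem mapU : (UQ (πS n τ)).map (SS n τ).subtype = UQ (πG n τ) := by
  ext x
  constructor
  · rintro ⟨_, ⟨y, hy, rfl⟩, rfl⟩
    exact ⟨⟨y.1, y.2.1⟩, hy, rfl⟩
  · rintro ⟨y, hy, rfl⟩
    exact ⟨_, ⟨⟨y.1, Uni_inf_le ⟨hy, y.2⟩⟩, hy, rfl⟩, rfl⟩

omit [Finite K] in
theorem mapT : (TQ (πS n τ)).map (SS n τ).subtype = TQ (πG n τ) ⊓ SS n τ := by
  ext x
  constructor
  · rintro ⟨_, ⟨y, hy, rfl⟩, rfl⟩
    exact ⟨⟨⟨y.1, y.2.1⟩, hy, rfl⟩, (πS n τ y).2⟩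
  · rintro ⟨⟨y, hy, rfl⟩, z, hz, e⟩
    have h1 : πG n τ (z⁻¹ * y) = 1 := by rw [map_mul, map_inv, e, inv_mul_cancel]
    have h2 := ((πG_eq_one n τ).1 h1).2
    have h3 : y ∈ (SUJ n τ).subgroupOf (GUJ n τ) := by
      have := mul_mem hz h2
      rwa [mul_inv_cancel_left] at this
    exact ⟨_, ⟨⟨y.1, h3⟩, hy, rfl⟩, rfl⟩

theorem gen_GG (h : Frob τ q) (hn : 3 ≤ n) (g : GG n τ) :
    ∃ t ∈ TQ (πG n τ), ∃ x ∈ SS n τ, g = t * x := by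
  obtain ⟨g, rfl⟩ := πG_surj n τ g
  have hi : (⟨0, by omega⟩ : Fin n) ≠ (⟨0, by omega⟩ : Fin n).rev := by
    intro e
    have := congrArg Fin.val e
    rw [Fin.val_rev] at this
    simp only at this
    omega
  obtain ⟨d, hd, hdG, hdet⟩ : ∃ d : GL (Fin n) K, d ∈ Dia n K ∧ d ∈ GUJ n τ ∧ d.1.det = g.1.1.det := by
    obtain ⟨x, hx⟩ := exists_hd h hi (det_norm g.2)
    exact ⟨_, dg_mem _, dg_hd_mem h.invol hi x, hx⟩
  have h1 : (d⁻¹ * d).1.det = 1 := by rw [inv_mul_cancel]; exact det_one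
  rw [Units.val_mul, det_mul, hdet] at h1
  have h2 : (d⁻¹ * g.1).1.det = 1 := by rw [Units.val_mul, det_mul]; exact h1
  obtain ⟨t, ht⟩ : ∃ t : GUJ n τ, t.1 = d := ⟨⟨d, hdG⟩, rfl⟩
  have h3 : t⁻¹ * g ∈ (SUJ n τ).subgroupOf (GUJ n τ) := by
    refine mem_SUJ.2 ⟨(t⁻¹ * g).2, ?_⟩
    change (t.1⁻¹ * g.1).1.det = 1
    rw [ht]
    exact h2
  have h4 : t * (t⁻¹ * g) = g := mul_inv_cancel_left _ _
  have h5 : πG n τ g = πG n τ t * πG n τ (t⁻¹ * g) := by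
    rw [← map_mul, h4]
  exact ⟨πG n τ t, ⟨t, by rw [← ht] at hd; exact hd, rfl⟩, πG n τ (t⁻¹ * g), ⟨_, h3, rfl⟩, h5⟩

theorem gen_cj (h : Frob τ q) {ψ : UJ n τ →* ℂˣ} (hψ : Gen h ψ) {t : GL (Fin n) K} (ht : t ∈ Dia n K)
    (ht' : t ∈ GUJ n τ) : Gen h (cj ψ ht ht') := by
  intro i j hij
  obtain ⟨a, ha⟩ := hψ i j hij
  have h1 := dia_ne_zero ht i
  have h2 := dia_ne_zero ht j
  refine ⟨(t.1 i i * (t.1 j j)⁻¹)⁻¹ * a, ?_⟩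
  rw [cj_xe h ψ ht ht' hij, mul_inv_cancel_left₀ (mul_ne_zero h1 (inv_ne_zero h2))]
  exact ha

/-- **TL-1 for sets** in `PSU`, `n` not a power of `2` -/
theorem count_odd (h : Frob τ q) (hn : 3 ≤ n) (hn2 : ∀ k : ℕ, n ≠ 2 ^ k) [Fintype (SS n τ)]
    {σ : ↥(UQ (πS n τ) ⊔ TQ (πS n τ)) →* ℂˣ}
    (hσ : TorChar (UQ (πS n τ) ⊔ TQ (πS n τ)) (UQ (πS n τ)) (TQ (πS n τ)) (NQ (πS n τ)) σ) :
    Odd (Nat.card {χ : IrrCharacter (SS n τ) //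
      classInner (indFun (UQ (πS n τ) ⊔ TQ (πS n τ)) (fun b => (σ b : ℂ))) (χ : SS n τ → ℂ) ≠ 0 ∧
      ∃ ψ ∈ {ψ : UQ (πS n τ) →* ℂˣ | Reg (UQ (πS n τ)) (TQ (πS n τ)) (NQ (πS n τ)) ψ},
        classInner (indFun (UQ (πS n τ)) (fun u => (ψ u : ℂ))) (χ : SS n τ → ℂ) ≠ 0}) := by
  have : Fintype (GG n τ) := Fintype.ofFinite _
  have hS := quoS h hn
  have hG := quoG h hn
  obtain ⟨s, h2, ho, e⟩ := lin_of hS.sys hS.sys.B_eq hσ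
  obtain ⟨sh, hs, h2', ho'⟩ := exists_ext_inv hS hG (SS n τ).subtype Subtype.val_injective (fun _ => rfl) hn2 s h2 ho
  obtain ⟨φ, hφ⟩ := exists_gen (n := n) h
  rw [← e]
  refine odd_count (SS n τ) hG.sys hS.sys mapU mapT (gen_GG h hn) (s := s) (sh := sh) hs h2' ho' ho _
    (fun _ hψ => hψ) ?_ ?_ (ψ₀ := φ.comp hS.eU.symm.toMonoidHom) ?_ (ψh := φ.comp hG.eU.symm.toMonoidHom) ?_ ?_
  · intro ψ hψ ψ' hψ'
    obtain ⟨t, ht, ht', e1⟩ := trans h (by omega) ((hS.reg_iff ψ).1 hψ) ((hS.reg_iff ψ').1 hψ')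
    refine ⟨πG n τ ⟨t, ht'⟩, ⟨_, ht, rfl⟩, fun u v huv => ?_⟩
    obtain ⟨x, rfl⟩ := hS.iU_surj u
    have h1 : v = hS.iU ⟨t * x.1 * t⁻¹, conj_mem_UJ ht ht' x.2⟩ := Subtype.ext (Subtype.ext huv)
    rw [h1]
    exact DFunLike.congr_fun e1 x
  · rintro _ ⟨t, ht, rfl⟩ ψ hψ ψ' hψ'
    refine (hS.reg_iff ψ').2 ?_
    have e1 : ψ'.comp hS.iU = cj (ψ.comp hS.iU) ht t.2 := by
      ext x
      exact congrArg Units.val (hψ' (hS.iU x) (hS.iU ⟨t.1 * x.1 * t.1⁻¹, conj_mem_UJ ht t.2 x.2⟩) rfl)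
    rw [e1]
    exact gen_cj h ((hS.reg_iff ψ).1 hψ) ht t.2
  · refine (hS.reg_iff _).2 ?_
    have e1 : (φ.comp hS.eU.symm.toMonoidHom).comp hS.iU = φ := by
      ext x
      exact congrArg (fun y => ((φ y : ℂˣ) : ℂ)) (hS.eU.symm_apply_apply x)
    rw [e1]
    exact hφ
  · refine (hG.reg_iff _).2 ?_
    have e1 : (φ.comp hG.eU.symm.toMonoidHom).comp hG.iU = φ := by
      ext x
      exact congrArg (fun y => ((φ y : ℂˣ) : ℂ)) (hG.eU.symm_apply_apply x)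
    rw [e1]
    exact hφ
  · intro u hu
    obtain ⟨x, rfl⟩ := hS.iU_surj u
    have h1 : (⟨_, hu⟩ : UQ (πG n τ)) = hG.eU x := Subtype.ext rfl
    change φ (hG.eU.symm _) = φ (hS.eU.symm (hS.eU x))
    rw [h1, hG.eU.symm_apply_apply, hS.eU.symm_apply_apply]

end Cfsg.Agent.H835.Sd
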