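import Cfsg.Agent.H835.Sd.Orb
import Mathlib.GroupTheory.FiniteAbelian.Duality

/-!
# The extension of a linear character of the torus of `SU` to the torus of `GU` (S4579, TL-5)
-/

set_option autoImplicit false

namespace Cfsg.Agent.H835.Sd

open Matrix Cfsg.Agent.H150.Toral

/-- extension of linear characters of 2-power order in abelian groups -/
theorem exists_ext {G : Type*} [Group G] [Finite G] {T T₁ : Subgroup G} (hc : ∀ a ∈ T, ∀ b ∈ T, a * b = b * a)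
    (hle : T₁ ≤ T) (s : T₁ →* ℂˣ) (h2 : ∃ k : ℕ, ∀ t, s t ^ 2 ^ k = 1) :
    ∃ φ : T →* ℂˣ, (∀ t : T₁, φ ⟨t, hle t.2⟩ = s t) ∧ ∃ k : ℕ, ∀ t, φ t ^ 2 ^ k = 1 := by
  let _ : CommGroup T := { (inferInstance : Group T) with mul_comm := fun a b => Subtype.ext (hc a a.2 b b.2) }
  obtain ⟨φ, hφ⟩ := MonoidHom.domRestrict_surjective ℂ (T₁.subgroupOf T) (s.comp (Subgroup.subgroupOfEquivOfLe hle).toMonoidHom)
  have hφ' : ∀ t : T₁, φ ⟨t, hle t.2⟩ = s t := by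
    intro t
    have := DFunLike.congr_fun hφ ⟨⟨t, hle t.2⟩, t.2⟩
    exact this
  obtain ⟨k, hk⟩ := h2
  obtain ⟨a, b, hb, e⟩ := Nat.exists_eq_two_pow_mul_odd (Nat.card_pos (α := T)).ne'
  have hcop : Nat.Coprime (2 ^ k) b := Nat.Coprime.pow_left _ (Nat.coprime_two_left.2 hb)
  obtain ⟨c, h1, h3⟩ := Nat.chineseRemainder hcop 1 0
  refine ⟨φ ^ c, fun t => ?_, a, fun t => ?_⟩
  · rw [MonoidHom.pow_apply, hφ']
    have h4 : orderOf (s t) ∣ 2 ^ k := orderOf_dvd_of_pow_eq_one (hk t)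
    have h5 := pow_eq_pow_iff_modEq.2 (h1.of_dvd h4)
    rwa [pow_one] at h5
  · rw [MonoidHom.pow_apply]
    obtain ⟨d, hd⟩ := (Nat.modEq_zero_iff_dvd).1 h3
    have h4 : φ t ^ Nat.card T = 1 := by rw [← map_pow, pow_card_eq_one', map_one]
    rw [hd, ← pow_mul, mul_right_comm, mul_comm b, ← e, pow_mul, h4, one_pow]

variable {n : ℕ} {K : Type*} [Field K] [Finite K] {τ : K →+* K} {q : ℕ} {S G : Type*} [Group S] [Group G]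
  {π : SUJ n τ →* S} {π' : GUJ n τ →* G}

/-- an element of the torus with given determinant fixed by `ρ` -/
theorem exists_fixed (h : Frob τ q) {ρ : Equiv.Perm (Fin n)} (hρ : CR ρ) {i : Fin n} (hi : ρ i = i) {b : K}
    (hb : b * τ b = 1) : ∃ d : Fin n → Kˣ, dg d ∈ GUJ n τ ∧ (dg d).1.det = b ∧ (fun k => d (ρ⁻¹ k)) = d := by
  have hi' : ρ⁻¹ i = i := by
    apply ρ.injective
    rw [self_pinv, hi]
  have hr' : ρ⁻¹ i.rev = i.rev := by rw [hρ.inv, hi']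
  have k1 : ∀ k, ρ⁻¹ k = i ↔ k = i := fun k =>
    ⟨fun e => by rw [← hi'] at e; exact ρ⁻¹.injective e, fun e => by rw [e, hi']⟩
  have k2 : ∀ k, ρ⁻¹ k = i.rev ↔ k = i.rev := fun k =>
    ⟨fun e => by rw [← hr'] at e; exact ρ⁻¹.injective e, fun e => by rw [e, hr']⟩
  by_cases hc : i = i.rev
  · have hb0 : b ≠ 0 := left_ne_zero_of_mul_eq_one hb
    refine ⟨md i (Units.mk0 b hb0), dg_md_mem hc hb, ?_, ?_⟩
    · rw [dg_det', md_prod, Units.val_mk0]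
    · funext k
      unfold md
      by_cases h1 : k = i
      · rw [if_pos h1, if_pos ((k1 k).2 h1)]
      · rw [if_neg h1, if_neg (fun e => h1 ((k1 k).1 e))]
  · obtain ⟨x, hx⟩ := exists_hd h hc hb
    refine ⟨hd τ i x, dg_hd_mem h.invol hc x, hx, ?_⟩
    funext k
    unfold hd
    by_cases h1 : k = i
    · rw [if_pos h1, if_pos ((k1 k).2 h1)]
    · rw [if_neg h1, if_neg (fun e => h1 ((k1 k).1 e))]
      by_cases h2 : k = i.rev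
      · rw [if_pos h2, if_pos ((k2 k).2 h2)]
      · rw [if_neg h2, if_neg (fun e => h2 ((k2 k).1 e))]

theorem exists_ext_inv [Finite G] [Finite S] (hS : Quo τ q (SUJ n τ) π) (hG : Quo τ q (GUJ n τ) π') (ι : S →* G)
    (hιi : Function.Injective ι) (hι : ∀ x : SUJ n τ, ι (π x) = π' ⟨x.1, x.2.1⟩) (hn : ∀ k : ℕ, n ≠ 2 ^ k)
    (s : TQ π →* ℂˣ) (h2 : ∃ k : ℕ, ∀ t, s t ^ 2 ^ k = 1) (ho : Odd (orb (TQ π) (NQ π) s).ncard) :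
    ∃ sh : TQ π' →* ℂˣ, (∀ (t : TQ π) (h : ι t ∈ TQ π'), sh ⟨ι t, h⟩ = s t) ∧
      (∃ k : ℕ, ∀ t, sh t ^ 2 ^ k = 1) ∧ Odd (orb (TQ π') (NQ π') sh).ncard := by
  have hle : (TQ π).map ι ≤ TQ π' := by
    rintro _ ⟨_, ⟨x, hx, rfl⟩, rfl⟩
    rw [hι]
    exact ⟨_, hx, rfl⟩
  -- transport to the image and extend
  let E := (TQ π).equivMapOfInjective ι hιi
  obtain ⟨sh, hsh, h2'⟩ := exists_ext hG.sys.comm hle (s.comp E.symm.toMonoidHom) (by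
    obtain ⟨k, hk⟩ := h2
    exact ⟨k, fun t => hk _⟩)
  have hsh' : ∀ (t : TQ π) (h : ι t ∈ TQ π'), sh ⟨ι t, h⟩ = s t := by
    intro t h
    have h1 := hsh (E t)
    change sh ⟨ι t, _⟩ = s (E.symm (E t)) at h1
    rw [MulEquiv.symm_apply_apply] at h1
    exact h1
  refine ⟨sh, hsh', h2', ?_⟩
  rw [hG.orb_card]
  rw [hS.orb_card] at ho
  -- permutations with a fixed point
  have key : ∀ ρ ∈ hS.Rs s, (∃ i, ρ i = i) → ρ ∈ hG.Rs sh := by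
    rintro ρ hρ ⟨i, hi⟩
    have hCR : CR ρ := hS.Rs_le s hρ
    obtain ⟨m, hm, hm'⟩ := (hS.mem_Rs s).1 hρ
    rw [hG.mem_Rs]
    have hmG : m.1.1 ∈ GUJ n τ := m.1.2.1
    refine ⟨⟨⟨m.1.1, hmG⟩, ⟨ρ, hm'⟩⟩, ?_, hm'⟩
    ext t
    congr 1
    rw [hG.act_apply]
    obtain ⟨_, ⟨⟨t, ht⟩, htD, rfl⟩⟩ := t
    replace htD : t ∈ Dia n K := htD
    obtain ⟨d, hd1, hd2, hd3⟩ := exists_fixed hG.fr hCR hi (det_norm ht)
    -- `t = dg d * t₁`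
    set t₁ : GL (Fin n) K := (dg d)⁻¹ * t with ht₁
    have ht₁D : t₁ ∈ Dia n K := (Dia n K).mul_mem ((Dia n K).inv_mem (dg_mem d)) htD
    have ht₁S : t₁ ∈ SUJ n τ := by
      rw [mem_SUJ]
      refine ⟨(GUJ n τ).mul_mem ((GUJ n τ).inv_mem hd1) ht, ?_⟩
      have h3 : ((dg d)⁻¹).1.det * (dg d).1.det = 1 := by rw [← det_mul, Units.inv_mul, det_one]
      rw [ht₁, Units.val_mul, det_mul, ← hd2, h3]
    have hfix : m.1.1⁻¹ * dg d * m.1.1 = dg d := by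
      have h3 := conj_dg hm' d
      rw [hd3] at h3
      rw [← h3]
      conv_rhs => rw [h3]
      group
    have hsplit : ∀ x : GL (Fin n) K, x⁻¹ * t * x = (x⁻¹ * dg d * x) * (x⁻¹ * t₁ * x) := by
      intro x
      rw [ht₁]; group
    -- the elements of the torus of `G`
    have hmem : ∀ (x : GL (Fin n) K) (hx : x ∈ GUJ n τ), x ∈ Dia n K → π' ⟨x, hx⟩ ∈ TQ π' :=
      fun x hx hxD => ⟨_, hxD, rfl⟩
    have hconjD : m.1.1⁻¹ * t₁ * m.1.1 ∈ Dia n K := by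
      have h3 := (hm'.inv.mul (mem_Dia_iff.1 ht₁D)).mul hm'
      rw [mul_one, inv_mul_cancel] at h3
      exact h3
    have hconjS : m.1.1⁻¹ * t₁ * m.1.1 ∈ SUJ n τ :=
      (SUJ n τ).mul_mem ((SUJ n τ).mul_mem ((SUJ n τ).inv_mem m.1.2) ht₁S) m.1.2
    -- `s (m⁻¹ t₁ m) = s t₁`
    have hs1 : s ⟨π ⟨m.1.1⁻¹ * t₁ * m.1.1, hconjS⟩, ⟨_, hconjD, rfl⟩⟩ = s ⟨π ⟨t₁, ht₁S⟩, ⟨_, ht₁D, rfl⟩⟩ := by
      have h3 := DFunLike.congr_fun hm (⟨π ⟨t₁, ht₁S⟩, ⟨_, ht₁D, rfl⟩⟩ : TQ π)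
      rw [hS.act_apply] at h3
      rw [← h3]
      congr 1
      apply Subtype.ext
      change π ⟨m.1.1⁻¹ * t₁ * m.1.1, hconjS⟩ = (π m.1)⁻¹ * π ⟨t₁, ht₁S⟩ * π m.1
      rw [← map_inv, ← map_mul, ← map_mul]
      rfl
    have hs2 : ∀ (x : GL (Fin n) K) (hx : x ∈ SUJ n τ) (hxD : x ∈ Dia n K),
        sh ⟨π' ⟨x, hx.1⟩, ⟨_, hxD, rfl⟩⟩ = s ⟨π ⟨x, hx⟩, ⟨_, hxD, rfl⟩⟩ := by
      intro x hx hxD
      have h3 := hsh' ⟨π ⟨x, hx⟩, ⟨_, hxD, rfl⟩⟩ (by rw [hι]; exact ⟨_, hxD, rfl⟩)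
      rw [← h3]
      congr 1
      apply Subtype.ext
      exact (hι ⟨x, hx⟩).symm
    have e1 : (⟨(π' ⟨m.1.1, hmG⟩)⁻¹ * π' ⟨t, ht⟩ * π' ⟨m.1.1, hmG⟩, hG.conj_mem ⟨⟨m.1.1, hmG⟩, ⟨ρ, hm'⟩⟩
        ⟨π' ⟨t, ht⟩, ⟨_, htD, rfl⟩⟩⟩ : TQ π') =
        ⟨π' ⟨dg d, hd1⟩, ⟨_, dg_mem d, rfl⟩⟩ * ⟨π' ⟨m.1.1⁻¹ * t₁ * m.1.1, hconjS.1⟩, ⟨_, hconjD, rfl⟩⟩ := by
      apply Subtype.ext
      change (π' ⟨m.1.1, hmG⟩)⁻¹ * π' ⟨t, ht⟩ * π' ⟨m.1.1, hmG⟩ =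
        π' ⟨dg d, hd1⟩ * π' ⟨m.1.1⁻¹ * t₁ * m.1.1, hconjS.1⟩
      rw [← map_inv, ← map_mul, ← map_mul, ← map_mul]
      congr 1
      apply Subtype.ext
      change m.1.1⁻¹ * t * m.1.1 = dg d * (m.1.1⁻¹ * t₁ * m.1.1)
      rw [hsplit, hfix]
    have e2 : (⟨π' ⟨t, ht⟩, ⟨_, htD, rfl⟩⟩ : TQ π') =
        ⟨π' ⟨dg d, hd1⟩, ⟨_, dg_mem d, rfl⟩⟩ * ⟨π' ⟨t₁, ht₁S.1⟩, ⟨_, ht₁D, rfl⟩⟩ := by
      apply Subtype.ext
      change π' ⟨t, ht⟩ = π' ⟨dg d, hd1⟩ * π' ⟨t₁, ht₁S.1⟩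
      rw [← map_mul]
      congr 1
      apply Subtype.ext
      change t = dg d * t₁
      rw [ht₁]; group
    change sh ⟨(π' ⟨m.1.1, hmG⟩)⁻¹ * π' ⟨t, ht⟩ * π' ⟨m.1.1, hmG⟩, _⟩ = sh ⟨π' ⟨t, ht⟩, _⟩
    rw [e1, e2, map_mul, map_mul, hs2 _ hconjS hconjD, hs2 _ ht₁S ht₁D, hs1]
  obtain ⟨Q, hQR, hQo, hQ⟩ := exists_Q hn (by have := hG.hn; omega) (hS.Rs_le s) ho
  have hle' : Q ≤ hG.Rs sh := by
    intro ρ hρ
    obtain ⟨ρ₁, h1, ρ₂, h2, rfl, h3, h4⟩ := hQ ρ hρ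
    exact (hG.Rs sh).mul_mem (key ρ₁ h1 h3) (key ρ₂ h2 h4)
  have h5 : (hG.Rs sh).relIndex (WW n) ∣ Q.relIndex (WW n) := Subgroup.relIndex_dvd_of_le_left _ hle'
  exact hQo.of_dvd_nat h5

end Cfsg.Agent.H835.Sd
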