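import Cfsg.Agent.H835.Sd.Mono
import Mathlib.FieldTheory.Finite.Basic
import Mathlib.GroupTheory.SpecificGroups.Cyclic
import Mathlib.RingTheory.IntegralDomain

/-!
# The group `GUJ`: the field, the involution `sg`, diagonal elements, root elements (S4579, TL-5)
-/

set_option autoImplicit false

namespace Cfsg.Agent.H835.Sd

open Matrix

/-- The finite field `K` of order `q ^ 2`, `q` odd, with its involution. -/
structure Frob {K : Type*} [Field K] [Finite K] (τ : K →+* K) (q : ℕ) : Prop where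
  ap : ∀ x, τ x = x ^ q
  card : Nat.card K = q ^ 2
  odd : Odd q

section field

variable {K : Type*} [Field K] [Finite K] {τ : K →+* K} {q : ℕ}

namespace Frob

theorem invol (h : Frob τ q) (x : K) : τ (τ x) = x := by
  have : Fintype K := Fintype.ofFinite K
  rw [h.ap, h.ap, ← pow_mul, ← sq, ← h.card, Nat.card_eq_fintype_card]
  exact FiniteField.pow_card x

theorem two_ne_zero (h : Frob τ q) : (2 : K) ≠ 0 := by
  have : Fintype K := Fintype.ofFinite K
  intro h2
  have h3 : ringChar K = 2 := by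
    have : CharP K 2 := CharTwo.of_one_ne_zero_of_two_eq_zero one_ne_zero h2
    exact ringChar.eq K 2
  have h4 := FiniteField.even_card_iff_char_two.1 h3
  have h5 : Fintype.card K = q ^ 2 := by rw [← Nat.card_eq_fintype_card, h.card]
  rw [h5] at h4
  exact (Nat.not_even_iff_odd.2 (h.odd.pow (n := 2))) (Nat.even_iff.2 h4)

theorem q_gt (h : Frob τ q) : 2 < q := by
  rcases h.odd with ⟨k, rfl⟩
  have h1 : 1 < Nat.card K := Finite.one_lt_card
  rw [h.card] at h1
  rcases Nat.eq_zero_or_pos k with h0 | h0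
  · subst h0; simp at h1
  · omega

/-- the multiplicative order -/
theorem pow_eq_one (h : Frob τ q) {x : K} (hx : x ≠ 0) : x ^ (q ^ 2 - 1) = 1 := by
  have : Fintype K := Fintype.ofFinite K
  have := FiniteField.pow_card_sub_one_eq_one x hx
  rwa [← Nat.card_eq_fintype_card, h.card] at this

/-- a generator -/
theorem exists_gen (h : Frob τ q) : ∃ g : Kˣ, orderOf g = q ^ 2 - 1 ∧ ∀ x : Kˣ, ∃ k : ℕ, x = g ^ k := by
  have : Fintype K := Fintype.ofFinite K
  classical
  obtain ⟨g, hg⟩ := IsCyclic.exists_generator (α := Kˣ)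
  refine ⟨g, ?_, fun x => ?_⟩
  · rw [orderOf_eq_card_of_forall_mem_zpowers hg, Nat.card_eq_fintype_card, Fintype.card_units,
      ← Nat.card_eq_fintype_card, h.card]
  · obtain ⟨k, hk⟩ := mem_powers_iff_mem_zpowers.2 (hg x)
    exact ⟨k, hk.symm⟩

theorem sub_one (h : Frob τ q) : q ^ 2 - 1 = (q + 1) * (q - 1) := by
  have := h.q_gt
  zify [Nat.one_le_pow 2 q (by omega), show 1 ≤ q by omega]
  ring

/-- norms are surjective -/
theorem exists_norm (h : Frob τ q) {b : K} (hb : b ≠ 0) (hf : τ b = b) : ∃ x : K, x ≠ 0 ∧ x * τ x = b := by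
  obtain ⟨g, ho, hg⟩ := h.exists_gen
  have hq := h.q_gt
  obtain ⟨k, hk⟩ := hg (Units.mk0 b hb)
  have h1 : (Units.mk0 b hb) ^ (q - 1) = 1 := by
    have h2 : b ^ q = b := by rw [← h.ap, hf]
    apply Units.ext
    push_cast
    rw [Units.val_mk0]
    have h3 : b ^ (q - 1) * b = 1 * b := by
      rw [← pow_succ, show q - 1 + 1 = q by omega, h2, one_mul]
    exact mul_right_cancel₀ hb h3
  rw [hk, ← pow_mul, ← orderOf_dvd_iff_pow_eq_one, ho, h.sub_one] at h1
  obtain ⟨j, rfl⟩ := Nat.dvd_of_mul_dvd_mul_right (by omega) h1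
  refine ⟨((g ^ j : Kˣ) : K), Units.ne_zero _, ?_⟩
  have h3 : b = ((g ^ ((q + 1) * j) : Kˣ) : K) := by rw [← hk, Units.val_mk0]
  rw [h3, h.ap, ← Units.val_pow_eq_pow_val, ← Units.val_mul]
  congr 1
  rw [← pow_mul, ← pow_add]
  congr 1
  ring

/-- Hilbert 90 -/
theorem exists_h90 (h : Frob τ q) {b : K} (hb : b * τ b = 1) : ∃ x : K, x ≠ 0 ∧ x * (τ x)⁻¹ = b := by
  obtain ⟨g, ho, hg⟩ := h.exists_gen
  have hq := h.q_gt
  have hb0 : b ≠ 0 := left_ne_zero_of_mul_eq_one hb
  obtain ⟨k, hk⟩ := hg (Units.mk0 b hb0)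
  have h1 : (Units.mk0 b hb0) ^ (q + 1) = 1 := by
    apply Units.ext
    push_cast
    rw [Units.val_mk0, pow_succ', ← h.ap, hb]
  rw [hk, ← pow_mul, ← orderOf_dvd_iff_pow_eq_one, ho, h.sub_one, mul_comm (q + 1)] at h1
  obtain ⟨j, rfl⟩ := Nat.dvd_of_mul_dvd_mul_right (by omega) h1
  have h3 : b = ((g ^ ((q - 1) * j) : Kˣ) : K) := by rw [← hk, Units.val_mk0]
  refine ⟨((g ^ j : Kˣ) : K)⁻¹, inv_ne_zero (Units.ne_zero _), ?_⟩
  rw [map_inv₀, inv_inv, h3, h.ap, inv_mul_eq_iff_eq_mul₀ (Units.ne_zero _), ← Units.val_pow_eq_pow_val,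
    ← Units.val_mul]
  congr 1
  rw [← pow_mul, ← pow_add]
  congr 1
  have : j * q = j * (q - 1 + 1) := by rw [show q - 1 + 1 = q by omega]
  rw [this]; ring

/-- an element of 2-power order which is not of norm one -/
theorem exists_zeta (h : Frob τ q) : ∃ z : K, z ≠ 0 ∧ (∃ a : ℕ, z ^ 2 ^ a = 1) ∧ z * τ z ≠ 1 := by
  obtain ⟨g, ho, -⟩ := h.exists_gen
  have hq := h.q_gt
  have hpos : 0 < q ^ 2 - 1 := by rw [h.sub_one]; exact Nat.mul_pos (by omega) (by omega)
  obtain ⟨a, b, hb, e⟩ := Nat.exists_eq_two_pow_mul_odd hpos.ne'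
  refine ⟨((g ^ b : Kˣ) : K), Units.ne_zero _, ⟨a, ?_⟩, fun h1 => ?_⟩
  · rw [← Units.val_pow_eq_pow_val, ← pow_mul, mul_comm, ← e, ← ho, pow_orderOf_eq_one, Units.val_one]
  · rw [h.ap, ← pow_succ', ← Units.val_pow_eq_pow_val, Units.val_eq_one, ← pow_mul,
      ← orderOf_dvd_iff_pow_eq_one, ho, h.sub_one, mul_comm b] at h1
    have h2 := Nat.dvd_of_mul_dvd_mul_left (by omega) h1
    have h3 : Even (q - 1) := by
      rcases h.odd with ⟨k, rfl⟩
      exact ⟨k, by omega⟩
    exact (Nat.not_even_iff_odd.2 hb) (h3.trans_dvd h2)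

/-- an element which is not fixed -/
theorem exists_ne (h : Frob τ q) : ∃ a : K, a ≠ τ a := by
  obtain ⟨z, hz, ⟨a, ha⟩, hn⟩ := h.exists_zeta
  by_contra hcon
  push Not at hcon
  have hq := h.q_gt
  -- all elements are fixed: `x ^ (q - 1) = 1`
  obtain ⟨g, ho, -⟩ := h.exists_gen
  have h1 : g ^ (q - 1) = 1 := by
    have h2 : (g : K) ^ q = g := by rw [← h.ap, ← hcon]
    apply Units.ext
    push_cast
    have h3 : (g : K) ^ (q - 1) * g = 1 * g := by
      rw [← pow_succ, show q - 1 + 1 = q by omega, h2, one_mul]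
    exact mul_right_cancel₀ g.ne_zero h3
  rw [← orderOf_dvd_iff_pow_eq_one, ho, h.sub_one] at h1
  have h2 := Nat.le_of_dvd (by omega) h1
  nlinarith [show 1 ≤ q - 1 by omega]

end Frob

end field

section matrices

variable {n : ℕ} {K : Type*} [Field K]

/-- the diagonal matrix as an element of `GL` -/
def dg : (Fin n → Kˣ) →* GL (Fin n) K where
  toFun d := ⟨diagonal fun i => (d i : K), diagonal fun i => ((d i)⁻¹ : Kˣ),
    by rw [diagonal_mul_diagonal, ← diagonal_one]; congr 1; funext i; simp,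
    by rw [diagonal_mul_diagonal, ← diagonal_one]; congr 1; funext i; simp⟩
  map_one' := by
    apply Units.ext
    simp
  map_mul' := by
    intro a b
    apply Units.ext
    simp

theorem dg_en (d : Fin n → Kˣ) (i j : Fin n) : (dg d).1 i j = if i = j then (d i : K) else 0 :=
  diagonal_apply ..

theorem dg_self (d : Fin n → Kˣ) (i : Fin n) : (dg d).1 i i = d i := by rw [dg_en, if_pos rfl]

theorem dg_mem (d : Fin n → Kˣ) : dg d ∈ Dia n K := fun i j h => by rw [dg_en, if_neg h]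

theorem dg_det (d : Fin n → Kˣ) : (dg d).1.det = ∏ i, (d i : K) := det_diagonal

theorem dg_mem_GUJ {τ : K →+* K} (d : Fin n → Kˣ) :
    dg d ∈ GUJ n τ ↔ ∀ i, (d i : K) * τ (d i.rev) = 1 := by
  rw [mem_GUJ]
  have e : ∀ i j, ((dg d).1 * sh τ (dg d).1) i j = if i = j then (d i : K) * τ (d i.rev) else 0 := by
    intro i j
    rw [mul_apply, Finset.sum_eq_single i, dg_self, sh_apply, dg_en]
    · by_cases h : i = j
      · subst h; rw [if_pos rfl, if_pos rfl]
      · rw [if_neg h, if_neg (fun e => h (Fin.rev_injective e).symm), map_zero, mul_zero]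
    · intro k _ hk
      rw [dg_en, if_neg hk.symm, zero_mul]
    · simp
  constructor
  · intro h i
    have := congrFun (congrFun h i) i
    rw [e, if_pos rfl, one_apply_eq] at this
    exact this
  · intro h
    ext i j
    rw [e, one_apply]
    by_cases hij : i = j
    · rw [if_pos hij, if_pos hij, h]
    · rw [if_neg hij, if_neg hij]

/-- every diagonal element is `dg` -/
theorem exists_dg {t : GL (Fin n) K} (ht : t ∈ Dia n K) : ∃ d, t = dg d := by
  refine ⟨fun i => Units.mk0 (t.1 i i) (dia_ne_zero ht i), ?_⟩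
  apply Units.ext
  ext i j
  rw [dg_en]
  by_cases h : i = j
  · subst h; rw [if_pos rfl]; rfl
  · rw [if_neg h, ht _ _ h]

theorem dia_comm {a b : GL (Fin n) K} (ha : a ∈ Dia n K) (hb : b ∈ Dia n K) : a * b = b * a := by
  obtain ⟨d, rfl⟩ := exists_dg ha
  obtain ⟨e, rfl⟩ := exists_dg hb
  rw [← map_mul, mul_comm, map_mul]

/-- the automorphism `g ↦ (g^♯)⁻¹` whose fixed points are `GUJ` -/
def sg (τ : K →+* K) : GL (Fin n) K →* GL (Fin n) K where
  toFun g := ⟨sh τ (g⁻¹).1, sh τ g.1, by rw [← sh_mul, Units.mul_inv, sh_one],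
    by rw [← sh_mul, Units.inv_mul, sh_one]⟩
  map_one' := by
    apply Units.ext
    simp
  map_mul' := by
    intro a b
    apply Units.ext
    change sh τ ((a * b)⁻¹).1 = sh τ (a⁻¹).1 * sh τ (b⁻¹).1
    rw [← sh_mul, _root_.mul_inv_rev, Units.val_mul]

theorem sg_val (τ : K →+* K) (g : GL (Fin n) K) : (sg τ g).1 = sh τ (g⁻¹).1 := rfl

theorem sg_en (τ : K →+* K) (g : GL (Fin n) K) (i j : Fin n) : (sg τ g).1 i j = τ ((g⁻¹).1 j.rev i.rev) := rfl

theorem mem_GUJ_iff_sg {τ : K →+* K} {g : GL (Fin n) K} : g ∈ GUJ n τ ↔ sg τ g = g := by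
  rw [mem_GUJ']
  constructor
  · intro h
    have h1 : sh τ g.1 = (g⁻¹).1 := by
      have h2 := congrArg (fun x => x * (g⁻¹).1) h
      simpa [Matrix.mul_assoc] using h2
    rw [← _root_.inv_inj]
    apply Units.ext
    exact h1
  · intro h
    have h1 : sh τ g.1 = (g⁻¹).1 := by
      have h2 : ((sg τ g)⁻¹).1 = (g⁻¹).1 := by rw [h]
      exact h2
    rw [h1]
    exact Units.inv_mul g

theorem GUJ_inv_en {τ : K →+* K} {g : GL (Fin n) K} (hg : g ∈ GUJ n τ) (i j : Fin n) :
    (g⁻¹).1 i j = τ (g.1 j.rev i.rev) := by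
  have h1 := (GUJ n τ).inv_mem hg
  rw [mem_GUJ_iff_sg] at h1
  conv_lhs => rw [← h1]
  rw [sg_en, inv_inv]

theorem sg_mem_Uni {τ : K →+* K} {u : GL (Fin n) K} (hu : u ∈ Uni n K) : sg τ u ∈ Uni n K := by
  intro i j hij
  rw [sg_en, (Uni n K).inv_mem hu _ _ (Fin.rev_le_rev.2 hij)]
  by_cases h : i = j
  · subst h; rw [if_pos rfl, if_pos rfl, map_one]
  · rw [if_neg h, if_neg (fun e => h (Fin.rev_injective e).symm), map_zero]

/-- the permutation `rev` -/
def rv (n : ℕ) : Equiv.Perm (Fin n) := Fin.revPerm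

theorem rv_apply (i : Fin n) : rv n i = i.rev := rfl

theorem sg_isMon {τ : K →+* K} {g : GL (Fin n) K} {π : Equiv.Perm (Fin n)} (hg : IsMon π g) :
    IsMon (rv n * π * rv n) (sg τ g) := by
  intro i j hij
  rw [sg_en, hg.inv, map_zero]
  intro e
  apply hij
  have h1 : π j.rev = i.rev := by rw [e]; simp
  change i = (π (j.rev)).rev
  rw [h1, Fin.rev_rev]

theorem GUJ_perm {τ : K →+* K} {g : GL (Fin n) K} {π : Equiv.Perm (Fin n)} (hg : IsMon π g)
    (h : g ∈ GUJ n τ) (i : Fin n) : π i.rev = (π i).rev := by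
  have h1 := sg_isMon (τ := τ) hg
  rw [mem_GUJ_iff_sg.1 h] at h1
  have h2 := hg.unique h1
  have h3 := congrArg (fun σ : Equiv.Perm (Fin n) => σ i.rev) h2
  change π i.rev = (π (i.rev).rev).rev at h3
  rwa [Fin.rev_rev] at h3

end matrices

end Cfsg.Agent.H835.Sd
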