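import Cfsg.Agent.H150.Toral.Def
import Mathlib.GroupTheory.QuotientGroup.Basic
import Mathlib.GroupTheory.Index

/-!
# The toral frame `Sys`: images, normalisers, index (S4579, TL-5)
-/

set_option autoImplicit false

namespace Cfsg.Agent.H835.Sd

open Subgroup Cfsg.Agent.H150.Toral

universe u v

section map

variable {G : Type u} {H : Type v} [Group G] [Group H] [Finite G] {U T N : Subgroup G}

/-- a power with prescribed behaviour: odd order, the same image -/
theorem exists_odd_pow (π : G →* H) (n : G) (ho : Odd (orderOf (π n))) :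
    ∃ k : ℕ, π (n ^ k) = π n ∧ Odd (orderOf (n ^ k)) := by
  obtain ⟨a, b, hb, e⟩ := Nat.exists_eq_two_pow_mul_odd (orderOf_pos n).ne'
  have hc : Nat.Coprime (2 ^ a) (orderOf (π n)) := Nat.Coprime.pow_left _ (Nat.coprime_two_left.2 ho)
  obtain ⟨k, h1, h2⟩ := Nat.chineseRemainder hc 0 1
  refine ⟨k, ?_, ?_⟩
  · rw [map_pow]
    have := pow_eq_pow_iff_modEq.2 h2
    rwa [pow_one] at this
  · have h3 : (n ^ k) ^ b = 1 := by
      obtain ⟨c, hc⟩ := (Nat.modEq_zero_iff_dvd).1 h1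
      rw [hc, ← pow_mul, mul_right_comm, ← e, pow_mul, pow_orderOf_eq_one, one_pow]
    exact hb.of_dvd_nat (orderOf_dvd_of_pow_eq_one h3)

/-- The image of the frame under a surjective homomorphism whose kernel is central and contained in `T`. -/
theorem sys_map (h : Sys U T N) (π : G →* H) (hs : Function.Surjective π) (hk : ∀ z, π z = 1 → z ∈ T)
    (hc : ∀ z, π z = 1 → ∀ g, z * g = g * z) : Sys (U.map π) (T.map π) (N.map π) where
  oddU := h.oddU.of_dvd_nat (card_dvd_of_surjective (π.subgroupMap U) (π.subgroupMap_surjective U))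
  cop := by
    have h1 : Nat.card (U.map π) ∣ Nat.card U :=
      card_dvd_of_surjective (π.subgroupMap U) (π.subgroupMap_surjective U)
    have h2 : Nat.card (T.map π) ∣ Nat.card T :=
      card_dvd_of_surjective (π.subgroupMap T) (π.subgroupMap_surjective T)
    exact Nat.Coprime.coprime_dvd_left h1 (Nat.Coprime.coprime_dvd_right h2 h.cop)
  comm := by
    rintro _ ⟨a, ha, rfl⟩ _ ⟨b, hb, rfl⟩
    rw [← map_mul, h.comm a ha b hb, map_mul]
  TN := map_mono h.TN
  NT := by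
    rintro _ ⟨n, hn, rfl⟩ _ ⟨t, ht, rfl⟩
    exact ⟨n * t * n⁻¹, h.NT n hn t ht, by simp⟩
  TU := by
    rintro _ ⟨n, hn, rfl⟩ _ ⟨t, ht, rfl⟩
    exact ⟨n * t * n⁻¹, h.TU n hn t ht, by simp⟩
  bruhat := by
    intro g
    obtain ⟨g, rfl⟩ := hs g
    obtain ⟨u, hu, n, hn, v, hv, e⟩ := h.bruhat g
    exact ⟨π u, ⟨u, hu, rfl⟩, π n, ⟨n, hn, rfl⟩, π v, ⟨v, hv, rfl⟩, by rw [e]; simp⟩
  uniq := by
    rintro _ ⟨n, hn, rfl⟩ _ ⟨m, hm, rfl⟩ _ ⟨u, hu, rfl⟩ _ ⟨v, hv, rfl⟩ e
    obtain ⟨z, hz, e1⟩ : ∃ z, π z = 1 ∧ m = u * (z * n) * v := by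
      refine ⟨u⁻¹ * m * v⁻¹ * n⁻¹, ?_, by group⟩
      rw [map_mul, map_mul, map_mul, map_inv, map_inv, map_inv, e]; group
    have h1 := h.uniq (z * n) (N.mul_mem (h.TN (hk z hz)) hn) m hm u hu v hv e1
    refine ⟨(z * n)⁻¹ * m, h1, ?_⟩
    rw [map_mul, map_inv, map_mul, hz, one_mul]
  fixU := by
    rintro _ ⟨u, hu, rfl⟩ hf
    have h1 : u = 1 := by
      refine h.fixU u hu fun t ht hk2 => ?_
      obtain ⟨k, hk2⟩ := hk2
      have h2 := hf (π t) ⟨t, ht, rfl⟩ ⟨k, by rw [← map_pow, hk2, map_one]⟩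
      have h3 : π (t * u * t⁻¹ * u⁻¹) = 1 := by
        rw [map_mul, map_mul, map_mul, h2, map_inv, map_inv]; group
      have h4 : t * u * t⁻¹ * u⁻¹ ∈ U ⊓ T := ⟨U.mul_mem (h.TU t ht u hu) (U.inv_mem hu), hk _ h3⟩
      rw [h.inf, mem_bot, mul_inv_eq_one, mul_inv_eq_iff_eq_mul] at h4
      exact h4
    rw [h1, map_one]
  fixN := by
    rintro _ ⟨n, hn, rfl⟩ ho hf
    obtain ⟨k, h1, h2⟩ := exists_odd_pow π n ho
    refine ⟨n ^ k, h.fixN _ (N.pow_mem hn k) h2 ?_, h1⟩
    intro t ht hk2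
    obtain ⟨j, hj⟩ := hk2
    set m := n ^ k with hm
    obtain ⟨z, hz, e⟩ : ∃ z, π z = 1 ∧ m * t * m⁻¹ = z * t := by
      refine ⟨m * t * m⁻¹ * t⁻¹, ?_, by group⟩
      have h3 := hf (π t) ⟨t, ht, rfl⟩ ⟨j, by rw [← map_pow, hj, map_one]⟩
      rw [map_mul, map_mul, map_mul, map_inv, map_inv, h1, ← h3]; group
    have h3 : z ^ 2 ^ j = 1 := by
      have h4 : (m * t * m⁻¹) ^ 2 ^ j = 1 := by rw [conj_pow, hj]; group
      rw [e, (show Commute z t from hc z hz t).mul_pow, hj, mul_one] at h4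
      exact h4
    have h4 : ∀ i : ℕ, m ^ i * t * (m ^ i)⁻¹ = z ^ i * t := by
      intro i
      induction i with
      | zero => simp
      | succ i ih =>
        have h5 : m ^ (i + 1) * t * (m ^ (i + 1))⁻¹ = m * (m ^ i * t * (m ^ i)⁻¹) * m⁻¹ := by
          rw [pow_succ']; group
        have h6 : ∀ i : ℕ, z ^ i * m = m * z ^ i := fun i =>
          (show Commute z m from hc z hz m).pow_left i
        rw [h5, ih, pow_succ, mul_assoc (z ^ i), ← e, ← mul_assoc, ← h6]; group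
    have h5 : z ^ orderOf m = 1 := by
      have := h4 (orderOf m)
      rw [pow_orderOf_eq_one] at this
      simpa using this.symm
    have h6 : z = 1 := by
      rw [← orderOf_eq_one_iff]
      exact Nat.eq_one_of_dvd_coprimes (Nat.Coprime.pow_left j (Nat.coprime_two_left.2 h2))
        (orderOf_dvd_of_pow_eq_one h3) (orderOf_dvd_of_pow_eq_one h5)
    rw [h6, one_mul, mul_inv_eq_iff_eq_mul] at e
    exact e.symm

end map

section norm

variable {S : Type u} [Group S] [Finite S] {U T N : Subgroup S}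

/-- `N` is the normaliser of `T`. -/
theorem normalizer_T (h : Sys U T N) : Subgroup.normalizer (T : Set S) = N := by
  apply le_antisymm
  · intro g hg
    obtain ⟨u, hu, n, hn, v, hv, e⟩ := h.bruhat g
    have key : ∀ t ∈ T, g⁻¹ * t * g = n⁻¹ * t * n := by
      intro t ht
      have ht' : g⁻¹ * t * g ∈ T := by
        have := (mem_normalizer_iff.1 ((Subgroup.normalizer (T : Set S)).inv_mem hg) t).1 ht
        rwa [inv_inv] at this
      generalize e' : g⁻¹ * t * g = t' at ht' ⊢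
      have e1 : t * n * t'⁻¹ = (t * u * t⁻¹)⁻¹ * u * n * (v * (t' * v * t'⁻¹)⁻¹) := by
        have e2 : t * g * t'⁻¹ = g := by rw [← e']; group
        rw [e] at e2
        calc t * n * t'⁻¹ = (t * u * t⁻¹)⁻¹ * (t * (u * n * v) * t'⁻¹) * (t' * v * t'⁻¹)⁻¹ := by group
          _ = (t * u * t⁻¹)⁻¹ * (u * n * v) * (t' * v * t'⁻¹)⁻¹ := by rw [e2]
          _ = _ := by group
      have h1 := h.uniq' hn (N.mul_mem (N.mul_mem (h.TN ht) hn) (N.inv_mem (h.TN ht')))
        (U.mul_mem (U.inv_mem (h.TU t ht u hu)) hu) (U.mul_mem hv (U.inv_mem (h.TU t' ht' v hv))) e1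
      have h2 : t' = n⁻¹ * (t * n * t'⁻¹) * t' := by rw [h1]; group
      calc t' = n⁻¹ * (t * n * t'⁻¹) * t' := h2
        _ = _ := by group
    have h1 : g * n⁻¹ ∈ N := by
      refine h.cent_T2 fun t ht => ?_
      have h2 := key t ht.1
      calc t * (g * n⁻¹) = g * (g⁻¹ * t * g) * n⁻¹ := by group
        _ = g * (n⁻¹ * t * n) * n⁻¹ := by rw [h2]
        _ = _ := by group
    have h2 := N.mul_mem h1 hn
    rwa [inv_mul_cancel_right] at h2
  · intro n hn
    rw [mem_normalizer_iff]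
    intro t
    refine ⟨fun ht => h.NT n hn t ht, fun ht => ?_⟩
    have := h.NT' hn ht
    have e : n⁻¹ * (n * t * n⁻¹) * n = t := by group
    rwa [e] at this

omit [Finite S] in
/-- the normaliser of `U` -/
theorem normalizer_U (h : Sys U T N) (hN : ∀ n ∈ N, (∀ u ∈ U, n * u * n⁻¹ ∈ U) → n ∈ T) :
    Subgroup.normalizer (U : Set S) = U ⊔ T := by
  apply le_antisymm
  · intro g hg
    obtain ⟨u, hu, n, hn, v, hv, e⟩ := h.bruhat g
    have h1 : n ∈ T := by
      refine hN n hn fun x hx => ?_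
      have e1 : n = u⁻¹ * g * v⁻¹ := by rw [e]; group
      have h2 : g * (v⁻¹ * x * v) * g⁻¹ ∈ U :=
        (mem_normalizer_iff.1 hg _).1 (U.mul_mem (U.mul_mem (U.inv_mem hv) hx) hv)
      have h3 : n * x * n⁻¹ = u⁻¹ * (g * (v⁻¹ * x * v) * g⁻¹) * u := by rw [e1]; group
      rw [h3]
      exact U.mul_mem (U.mul_mem (U.inv_mem hu) h2) hu
    rw [e]
    exact mul_mem (mul_mem (mem_sup_left hu) (mem_sup_right h1)) (mem_sup_left hv)
  · refine sup_le le_normalizer fun t ht => ?_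
    rw [mem_normalizer_iff]
    intro u
    refine ⟨fun hu => h.TU t ht u hu, fun hu => ?_⟩
    have := h.TU' ht hu
    have e : t⁻¹ * (t * u * t⁻¹) * t = u := by group
    rwa [e] at this

/-- `U` is a Sylow subgroup. -/
theorem not_dvd_index (h : Sys U T N) {p : ℕ} [Fact p.Prime] (hU : IsPGroup p U)
    (hT : ¬ p ∣ Nat.card T)
    (hN : ∀ n ∈ N, (∀ u ∈ U, n * u * n⁻¹ ∈ U) → n ∈ T) : ¬ p ∣ U.index := by
  intro hd
  obtain ⟨k, hk⟩ := hU.exists_card_eq
  have h1 : p ^ (k + 1) ∣ Nat.card S := by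
    rw [← U.card_mul_index, hk, pow_succ]
    exact mul_dvd_mul_left _ hd
  have h2 := Sylow.prime_dvd_card_quotient_normalizer h1 hk
  apply hT
  refine h2.trans ?_
  have hTN : T ≤ Subgroup.normalizer (U : Set S) := by
    rw [normalizer_U h hN]; exact le_sup_right
  have hn : (Subgroup.comap (Subgroup.normalizer (U : Set S)).subtype U).Normal :=
    inferInstanceAs (U.subgroupOf (Subgroup.normalizer (U : Set S))).Normal
  let f : T →* (Subgroup.normalizer (U : Set S) ⧸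
      Subgroup.comap (Subgroup.normalizer (U : Set S)).subtype U) :=
    (QuotientGroup.mk' _).comp (Subgroup.inclusion hTN)
  apply card_dvd_of_surjective f
  intro x
  obtain ⟨⟨x, hx⟩, rfl⟩ := QuotientGroup.mk'_surjective _ x
  have hx' := hx
  rw [normalizer_U h hN, ← h.B_eq] at hx'
  obtain ⟨u, hu, t, ht, e⟩ := hx'
  refine ⟨⟨t, ht⟩, ?_⟩
  change (QuotientGroup.mk' _) _ = (QuotientGroup.mk' _) _
  rw [QuotientGroup.mk'_eq_mk']
  refine ⟨⟨t⁻¹ * u * t, le_normalizer (h.TU' ht hu)⟩, h.TU' ht hu, ?_⟩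
  apply Subtype.ext
  change t * (t⁻¹ * u * t) = x
  rw [e]; group

/-- the centre is trivial -/
theorem center_eq_bot (h : Sys U T N) (hN : ∀ n ∈ N, (∀ u ∈ U, n * u * n⁻¹ ∈ U) → n ∈ T)
    (hc : ∀ t ∈ T, (∀ u ∈ U, t * u = u * t) → t = 1) : Subgroup.center S = ⊥ := by
  rw [eq_bot_iff]
  intro z hz
  rw [mem_center_iff] at hz
  rw [mem_bot]
  have h1 : z ∈ N := h.cent_T2 fun t _ => hz t
  have h2 : z ∈ T := hN z h1 fun u hu => by
    have e : z * u * z⁻¹ = u := by rw [← hz u]; group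
    rwa [e]
  exact hc z h2 fun u _ => (hz u).symm

end norm

end Cfsg.Agent.H835.Sd
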