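import Cfsg.Agent.H835.Sd.GUBasic
import Mathlib.LinearAlgebra.Matrix.Charpoly.Coeff
import Mathlib.GroupTheory.PGroup
import Mathlib.FieldTheory.Finite.Basic

/-!
# Unitriangular matrices form a `p`-group (S4579, TL-5)
-/

set_option autoImplicit false

namespace Cfsg.Agent.H835.Sd

open Matrix

variable {n : ℕ} {K : Type*} [Field K]

theorem Uni_tri {u : GL (Fin n) K} (hu : u ∈ Uni n K) : u.1.IsUpperTriangular :=
  fun _ _ hij => uni_en_of_lt hu hij

theorem Uni_det {u : GL (Fin n) K} (hu : u ∈ Uni n K) : u.1.det = 1 := by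
  rw [det_of_isUpperTriangular (Uni_tri hu)]
  exact Finset.prod_eq_one fun i _ => uni_en_self hu i

theorem Uni_nil {u : GL (Fin n) K} (hu : u ∈ Uni n K) : (u.1 - 1) ^ n = 0 := by
  have h1 : u.1.charpoly = (Polynomial.X - Polynomial.C 1) ^ n := by
    rw [charpoly_of_isUpperTriangular _ (Uni_tri hu)]
    rw [Finset.prod_congr rfl fun i _ => by rw [uni_en_self hu i]]
    simp
  have h2 := aeval_self_charpoly u.1
  rw [h1, map_pow, map_sub, Polynomial.aeval_X, Polynomial.aeval_C, map_one] at h2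
  exact h2

theorem Uni_isPGroup (p : ℕ) [Fact p.Prime] [CharP K p] : IsPGroup p (Uni n K) := by
  rintro ⟨u, hu⟩
  rcases Nat.eq_zero_or_pos n with h0 | h0
  · subst h0
    exact ⟨0, Subtype.ext (Units.ext (Subsingleton.elim _ _))⟩
  have : Nonempty (Fin n) := ⟨⟨0, h0⟩⟩
  refine ⟨n, ?_⟩
  have h1 : (u.1 - 1) ^ p ^ n = 0 := by
    have h2 : n ≤ p ^ n := (Nat.lt_pow_self (Fact.out (p := p.Prime)).one_lt).le
    exact pow_eq_zero_of_le h2 (Uni_nil hu)
  have : CharP (Matrix (Fin n) (Fin n) K) p := inferInstance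
  have h2 : (u.1 - 1) ^ p ^ n = u.1 ^ p ^ n - 1 ^ p ^ n :=
    sub_pow_char_pow_of_commute (p := p) n (Commute.one_right _)
  rw [h1, one_pow] at h2
  apply Subtype.ext
  apply Units.ext
  push_cast
  exact (sub_eq_zero.1 h2.symm)

variable [Finite K] {τ : K →+* K} {q : ℕ}

/-- the characteristic -/
theorem Frob.exists_char (h : Frob τ q) : ∃ p : ℕ, p.Prime ∧ CharP K p ∧ p ≠ 2 ∧ ¬ p ∣ q ^ 2 - 1 := by
  have : Fintype K := Fintype.ofFinite K
  obtain ⟨p, hp⟩ := CharP.exists K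
  have hpr : p.Prime := CharP.char_is_prime K p
  refine ⟨p, hpr, hp, ?_, ?_⟩
  · rintro rfl
    exact h.two_ne_zero (CharP.cast_eq_zero K 2)
  · have h1 : p ∣ q ^ 2 := by
      rw [← h.card, Nat.card_eq_fintype_card]
      obtain ⟨m, -, hm⟩ := FiniteField.card K p
      rw [hm]
      exact dvd_pow_self p m.ne_zero
    intro h2
    have h3 : p ∣ q ^ 2 - (q ^ 2 - 1) := Nat.dvd_sub h1 h2
    have h4 := h.q_gt
    have h5 : 0 < q ^ 2 := by positivity
    rw [Nat.sub_sub_self (by omega)] at h3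
    exact hpr.one_lt.ne' (Nat.dvd_one.1 h3)

/-- the order of the diagonal elements -/
theorem Frob.dia_pow (h : Frob τ q) {t : GL (Fin n) K} (ht : t ∈ Dia n K) : t ^ (q ^ 2 - 1) = 1 := by
  obtain ⟨d, rfl⟩ := exists_dg ht
  rw [← map_pow]
  have h1 : d ^ (q ^ 2 - 1) = 1 := by
    funext i
    rw [Pi.pow_apply, Pi.one_apply]
    apply Units.ext
    push_cast
    exact h.pow_eq_one (d i).ne_zero
  rw [h1, map_one]

theorem Frob.dia_card (h : Frob τ q) {p : ℕ} (hp : p.Prime) (hpd : ¬ p ∣ q ^ 2 - 1) {G' : Subgroup (GL (Fin n) K)} :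
    ¬ p ∣ Nat.card ((Dia n K).subgroupOf G') := by
  intro hd
  have : Fact p.Prime := ⟨hp⟩
  obtain ⟨x, hx⟩ := exists_prime_orderOf_dvd_card' p hd
  have h1 : x ^ (q ^ 2 - 1) = 1 := by
    apply Subtype.ext
    apply Subtype.ext
    push_cast
    exact h.dia_pow x.2
  have h2 := orderOf_dvd_of_pow_eq_one h1
  rw [hx] at h2
  exact hpd h2

end Cfsg.Agent.H835.Sd
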