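import Cfsg.Agent.H835.Sd.Tor
import Cfsg.Agent.H835.Sd.UniP
import Cfsg.Agent.H835.Sd.Root
import Cfsg.Agent.H835.Sd.SysMap

/-!
# The toral frame of a group between `SUJ` and `GUJ` (S4579, TL-5)
-/

set_option autoImplicit false

namespace Cfsg.Agent.H835.Sd

open Matrix Cfsg.Agent.H150.Toral

variable {n : ℕ} {K : Type*} [Field K]

theorem mul_inj_of_odd {G : Type*} [Group G] {c : G} (ho : Odd (orderOf c)) : ∃ k : ℕ, (c ^ k) * (c ^ k) = c := by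
  obtain ⟨m, hm⟩ := ho
  refine ⟨m + 1, ?_⟩
  rw [← pow_add, show m + 1 + (m + 1) = (2 * m + 1) + 1 by ring, ← hm, pow_succ, pow_orderOf_eq_one, one_mul]

/-- the elements of `Uni` have odd order -/
theorem Uni_odd {p : ℕ} [Fact p.Prime] [CharP K p] (hp : p ≠ 2) {u : GL (Fin n) K} (hu : u ∈ Uni n K) :
    Odd (orderOf u) := by
  obtain ⟨k, hk⟩ := Uni_isPGroup (n := n) (K := K) p ⟨u, hu⟩
  have h1 : u ^ p ^ k = 1 := congrArg Subtype.val hk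
  exact ((Nat.Prime.odd_of_ne_two Fact.out hp).pow).of_dvd_nat (orderOf_dvd_of_pow_eq_one h1)

theorem Uni_inf_le {τ : K →+* K} : Uni n K ⊓ GUJ n τ ≤ SUJ n τ := fun _ hu =>
  mem_SUJ.2 ⟨hu.2, Uni_det hu.1⟩

/-- the Bruhat decomposition inside `GUJ` -/
theorem bruhatGU {τ : K →+* K} {p : ℕ} [Fact p.Prime] [CharP K p] (hp : p ≠ 2) (hτ : ∀ x, τ (τ x) = x)
    {g : GL (Fin n) K} (hg : g ∈ GUJ n τ) :
    ∃ u ∈ Uni n K, u ∈ GUJ n τ ∧ ∃ m ∈ Mon n K, m ∈ GUJ n τ ∧ ∃ v ∈ Uni n K, v ∈ GUJ n τ ∧ g = u * m * v := by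
  obtain ⟨u, hu, m, ⟨π, hm⟩, v, hv, e⟩ := bruhatGL g
  have hss : ∀ x : GL (Fin n) K, sg τ (sg τ x) = x := by
    intro x
    apply Units.ext
    ext i j
    rw [sg_en]
    change τ (sh τ x.1 _ _) = _
    rw [sh_apply, hτ, Fin.rev_rev, Fin.rev_rev]
  have e1 : g = sg τ u * sg τ m * sg τ v := by
    rw [← map_mul, ← map_mul, ← e, mem_GUJ_iff_sg.1 hg]
  have hmm : sg τ m = m := by
    have e2 : sg τ m = ((sg τ u)⁻¹ * u) * m * (v * (sg τ v)⁻¹) := by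
      calc sg τ m = (sg τ u)⁻¹ * (sg τ u * sg τ m * sg τ v) * (sg τ v)⁻¹ := by group
        _ = (sg τ u)⁻¹ * (u * m * v) * (sg τ v)⁻¹ := by rw [← e1, ← e]
        _ = _ := by group
    exact (uniqGL (sg_isMon hm) hm ((Uni n K).mul_mem ((Uni n K).inv_mem (sg_mem_Uni hu)) hu)
      ((Uni n K).mul_mem hv ((Uni n K).inv_mem (sg_mem_Uni hv))) e2).2
  -- `c = u⁻¹ σ(u)` lies in `Uni ∩ m Uni m⁻¹`
  set c := u⁻¹ * sg τ u with hc
  have hcU : c ∈ Uni n K := (Uni n K).mul_mem ((Uni n K).inv_mem hu) (sg_mem_Uni hu)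
  have hcm : m⁻¹ * c * m ∈ Uni n K := by
    have e3 : m⁻¹ * c * m = v * (sg τ v)⁻¹ := by
      have e4 : u * m * v = sg τ u * m * sg τ v := by rw [← e, e1, hmm]
      calc m⁻¹ * c * m = m⁻¹ * u⁻¹ * (sg τ u * m * sg τ v) * (sg τ v)⁻¹ := by rw [hc]; group
        _ = m⁻¹ * u⁻¹ * (u * m * v) * (sg τ v)⁻¹ := by rw [e4]
        _ = _ := by group
    rw [e3]
    exact (Uni n K).mul_mem hv ((Uni n K).inv_mem (sg_mem_Uni hv))
  have hσc : sg τ c = c⁻¹ := by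
    rw [hc, map_mul, hss, map_inv]; group
  obtain ⟨k, hk⟩ := mul_inj_of_odd (Uni_odd hp hcU)
  set d := c ^ k with hd
  have hσd : sg τ d = d⁻¹ := by rw [hd, map_pow, hσc, inv_pow]
  have hdm : m⁻¹ * d * m ∈ Uni n K := by
    have e5 : m⁻¹ * d * m = (m⁻¹ * c * m) ^ k := by
      have := conj_pow (i := k) (a := m⁻¹) (b := c)
      rw [inv_inv] at this
      rw [hd, this]
    rw [e5]
    exact (Uni n K).pow_mem hcm k
  have h1 : u * d ∈ GUJ n τ := by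
    rw [mem_GUJ_iff_sg, map_mul, hσd]
    calc sg τ u * d⁻¹ = u * c * d⁻¹ := by rw [hc]; group
      _ = u * (d * d) * d⁻¹ := by rw [hk]
      _ = _ := by group
  have h2 : m ∈ GUJ n τ := mem_GUJ_iff_sg.2 hmm
  refine ⟨u * d, (Uni n K).mul_mem hu ((Uni n K).pow_mem hcU k), h1, m, ⟨π, hm⟩, h2,
    m⁻¹ * (u * d)⁻¹ * g, ?_, ?_, by group⟩
  · have e6 : m⁻¹ * (u * d)⁻¹ * g = (m⁻¹ * d * m)⁻¹ * v := by rw [e]; group
    rw [e6]
    exact (Uni n K).mul_mem ((Uni n K).inv_mem hdm) hv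
  · exact (GUJ n τ).mul_mem ((GUJ n τ).mul_mem ((GUJ n τ).inv_mem h2) ((GUJ n τ).inv_mem h1)) hg

variable [Finite K] {τ : K →+* K} {q : ℕ}

/-- **The toral frame.** -/
theorem Frob.sys (h : Frob τ q) (hn : 3 ≤ n) {G' : Subgroup (GL (Fin n) K)} (h1 : SUJ n τ ≤ G')
    (h2 : G' ≤ GUJ n τ) :
    Sys ((Uni n K).subgroupOf G') ((Dia n K).subgroupOf G') ((Mon n K).subgroupOf G') := by
  obtain ⟨p, hp, hch, hp2, hpd⟩ := h.exists_char
  have : Fact p.Prime := ⟨hp⟩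
  have hU : IsPGroup p ((Uni n K).subgroupOf G') := by
    rintro ⟨⟨u, hu⟩, hu'⟩
    obtain ⟨k, hk⟩ := Uni_isPGroup (n := n) (K := K) p ⟨u, hu'⟩
    have h3 : u ^ p ^ k = 1 := congrArg Subtype.val hk
    exact ⟨k, Subtype.ext (Subtype.ext h3)⟩
  obtain ⟨m, hm⟩ := hU.exists_card_eq
  refine ⟨?_, ?_, ?_, ?_, ?_, ?_, ?_, ?_, ?_, ?_⟩
  · rw [hm]; exact (hp.odd_of_ne_two hp2).pow
  · rw [hm]
    exact Nat.Coprime.pow_left _ ((Nat.Prime.coprime_iff_not_dvd hp).2 (h.dia_card hp hpd))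
  · intro a ha b hb
    exact Subtype.ext (dia_comm ha hb)
  · exact Subgroup.comap_mono Dia_le_Mon
  · rintro ⟨m, hm'⟩ ⟨π, hm⟩ ⟨t, ht'⟩ ht
    replace ht : t ∈ Dia n K := ht
    replace hm : IsMon π m := hm
    have h3 := (IsMon.mul (IsMon.mul hm (mem_Dia_iff.1 ht)) hm.inv)
    rw [mul_one, mul_inv_cancel] at h3
    exact h3
  · rintro ⟨t, ht'⟩ ht ⟨u, hu'⟩ hu
    replace ht : t ∈ Dia n K := ht
    replace hu : u ∈ Uni n K := hu
    change t * u * t⁻¹ ∈ Uni n K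
    intro i j hij
    rw [dia_conj_en ht, hu _ _ hij]
    by_cases h : i = j
    · subst h; rw [if_pos rfl, mul_one, mul_inv_cancel₀ (dia_ne_zero ht i)]
    · rw [if_neg h, mul_zero, zero_mul]
  · rintro ⟨g, hg⟩
    obtain ⟨u, hu, hu', m, hm, hm', v, hv, hv', e⟩ := bruhatGU hp2 h.invol (h2 hg)
    have hu'' : u ∈ G' := h1 (Uni_inf_le ⟨hu, hu'⟩)
    have hv'' : v ∈ G' := h1 (Uni_inf_le ⟨hv, hv'⟩)
    have hm'' : m ∈ G' := by
      have : m = u⁻¹ * g * v⁻¹ := by rw [e]; group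
      rw [this]
      exact G'.mul_mem (G'.mul_mem (G'.inv_mem hu'') hg) (G'.inv_mem hv'')
    exact ⟨⟨u, hu''⟩, hu, ⟨m, hm''⟩, hm, ⟨v, hv''⟩, hv, Subtype.ext e⟩
  · rintro ⟨a, ha'⟩ ⟨π, ha⟩ ⟨b, hb'⟩ ⟨ρ, hb⟩ ⟨u, hu'⟩ hu ⟨v, hv'⟩ hv e
    have e' : b = u * a * v := congrArg Subtype.val e
    replace ha : IsMon π a := ha
    replace hb : IsMon ρ b := hb
    have h3 := (uniqGL hb ha hu hv e').2
    subst h3
    rw [inv_mul_cancel]
    exact one_mem _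
  · rintro ⟨u, hu'⟩ hu hf
    replace hu : u ∈ Uni n K := hu
    apply Subtype.ext
    apply Units.ext
    ext i j
    change u.1 i j = (1 : GL (Fin n) K).1 i j
    rw [en_one]
    by_cases hij : i = j
    · subst hij; rw [if_pos rfl, uni_en_self hu]
    · rw [if_neg hij]
      obtain ⟨t, ht, ht', ⟨k, hk⟩, hne⟩ := h.sep hn hij
      have h3 := congrArg Subtype.val (hf ⟨t, h1 ht'⟩ ht ⟨k, Subtype.ext hk⟩)
      change t * u = u * t at h3
      have h4 : (t * u).1 i j = (u * t).1 i j := by rw [h3]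
      rw [dia_mul_en ht, mul_dia_en ht, mul_comm (u.1 i j), ← sub_eq_zero, ← sub_mul] at h4
      exact (mul_eq_zero.1 h4).resolve_left (sub_ne_zero.2 hne)
  · rintro ⟨m, hm'⟩ ⟨π, hm⟩ - hf
    replace hm : IsMon π m := hm
    have h3 : π = 1 := by
      ext j
      by_contra hj
      have hij : π j ≠ j := fun e => hj (by rw [e]; rfl)
      obtain ⟨t, ht, ht', ⟨k, hk⟩, hne⟩ := h.sep hn hij
      have h3 := congrArg Subtype.val (hf ⟨t, h1 ht'⟩ ht ⟨k, Subtype.ext hk⟩)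
      change t * m = m * t at h3
      have h4 : (t * m).1 (π j) j = (m * t).1 (π j) j := by rw [h3]
      rw [dia_mul_en ht, mul_dia_en ht, mul_comm (m.1 (π j) j)] at h4
      exact hne (mul_right_cancel₀ (hm.ne_zero j) h4)
    subst h3
    exact hm

end Cfsg.Agent.H835.Sd
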