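import Cfsg.Agent.H835.Sd.LinU
import Cfsg.Agent.H835.Sd.Tor
import Mathlib.NumberTheory.LegendreSymbol.AddCharacter
import Mathlib.Analysis.Fourier.FiniteAbelian.PontryaginDuality

/-!
# Generic linear characters of `UJ`: existence and transitivity of the torus (S4579, TL-5)
-/

set_option autoImplicit false

namespace Cfsg.Agent.H835.Sd

open Matrix

variable {n : ℕ} {K : Type*} [Field K] [Finite K] {τ : K →+* K} {q : ℕ}

/-- `ψ` is nontrivial on all simple root groups -/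
def Gen (h : Frob τ q) (ψ : UJ n τ →* ℂˣ) : Prop :=
  ∀ i j : Fin n, j.val = i.val + 1 → ∃ a : K, ψ (xe h i j a) ≠ 1

omit [Finite K] in
theorem Xm_add (τ : K →+* K) (i j : Fin n) (a b : K) : Xm τ i j (a + b) = Xm τ i j a + Xm τ i j b := by
  ext r s
  rw [Matrix.add_apply, Xm_en, Xm_en, Xm_en, map_add]
  split_ifs <;> ring

theorem psi_sup (h : Frob τ q) (ψ : UJ n τ →* ℂˣ) {u v : UJ n τ}
    (e : ∀ i j : Fin n, j.val = i.val + 1 → u.1.1 i j = v.1.1 i j) : ψ u = ψ v :=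
  psi_diff ψ (fun v hv => triv_of_level h ψ le_rfl v hv) (Lv.zero_one _) (Lv.zero_one _) e

theorem psi_add (h : Frob τ q) (ψ : UJ n τ →* ℂˣ) {i j : Fin n} (hij : j.val = i.val + 1) (a b : K) :
    ψ (xe h i j (a + b)) = ψ (xe h i j a) * ψ (xe h i j b) := by
  rw [← map_mul]
  refine psi_sup h ψ fun r s hrs => ?_
  have hlt : r < s := by change r.val < s.val; omega
  rw [xe_en h le_rfl hij _ hrs, Xm_add, Subgroup.coe_mul,
    Lv.mul_en (xe h i j a).2.1 (xe h i j b).2.1 (Lv.zero_one _) hlt hrs.le, xe_en h le_rfl hij _ hrs,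
    xe_en h le_rfl hij _ hrs, Matrix.add_apply]

/-- the additive character attached to a simple root -/
noncomputable def ac (h : Frob τ q) (ψ : UJ n τ →* ℂˣ) {i j : Fin n} (hij : j.val = i.val + 1) : AddChar K ℂ where
  toFun a := (ψ (xe h i j a) : ℂ)
  map_zero_eq_one' := by
    have h1 := psi_add h ψ hij 0 0
    rw [add_zero, left_eq_mul] at h1
    rw [h1, Units.val_one]
  map_add_eq_mul' a b := by rw [psi_add h ψ hij, Units.val_mul]

theorem ac_apply (h : Frob τ q) (ψ : UJ n τ →* ℂˣ) {i j : Fin n} (hij : j.val = i.val + 1) (a : K) :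
    ac h ψ hij a = (ψ (xe h i j a) : ℂ) := rfl

/-- all additive characters are multiples of a nontrivial one -/
theorem exists_shift {φ ψ : AddChar K ℂ} (hφ : φ ≠ 1) (hψ : ψ ≠ 1) : ∃ b : K, b ≠ 0 ∧ ∀ a, ψ a = φ (b * a) := by
  have : Fintype K := Fintype.ofFinite K
  have hi : Function.Injective (AddChar.mulShift φ) :=
    AddChar.to_mulShift_inj_of_isPrimitive (AddChar.IsPrimitive.of_ne_one hφ)
  have hb : Function.Bijective (AddChar.mulShift φ) := by
    rw [Fintype.bijective_iff_injective_and_card]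
    exact ⟨hi, (AddChar.card_eq (α := K)).symm⟩
  obtain ⟨b, rfl⟩ := hb.2 ψ
  refine ⟨b, ?_, fun a => AddChar.mulShift_apply⟩
  rintro rfl
  apply hψ
  ext a
  rw [AddChar.mulShift_apply, zero_mul, AddChar.map_zero_eq_one, AddChar.one_apply]

omit [Finite K] in
theorem shift_unique {φ : AddChar K ℂ} (hφ : φ ≠ 1) {b c : K} (e : ∀ a, φ (b * a) = φ (c * a)) : b = c := by
  have hi : Function.Injective (AddChar.mulShift φ) :=
    AddChar.to_mulShift_inj_of_isPrimitive (AddChar.IsPrimitive.of_ne_one hφ)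
  apply hi
  ext a
  rw [AddChar.mulShift_apply, AddChar.mulShift_apply, e]

theorem ac_ne (h : Frob τ q) {ψ : UJ n τ →* ℂˣ} (hψ : Gen h ψ) {i j : Fin n} (hij : j.val = i.val + 1) :
    ac h ψ hij ≠ 1 := by
  intro e
  obtain ⟨a, ha⟩ := hψ i j hij
  apply ha
  apply Units.ext
  have := DFunLike.congr_fun e a
  rwa [ac_apply, AddChar.one_apply] at this

/-- mirrored root elements -/
theorem xe_rev (h : Frob τ q) {i j : Fin n} (hij : i < j) (a : K) :
    xe h j.rev i.rev a = xe h i j (-τ a) := by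
  apply Subtype.ext
  rw [xe_val h hij, xe_val h (Fin.rev_lt_rev.2 hij)]
  have e : Xm τ j.rev i.rev a = Xm τ i j (-τ a) := by
    ext r s
    rw [Xm_en, Xm_en, Fin.rev_rev, Fin.rev_rev, map_neg, h.invol]
    split_ifs <;> ring
  apply Units.ext
  rw [xr, xr, ex_val, ex_val, e]

omit [Finite K] in
/-- conjugation by a diagonal element -/
theorem conj_mem_UJ {t : GL (Fin n) K} (ht : t ∈ Dia n K) (ht' : t ∈ GUJ n τ) {u : GL (Fin n) K}
    (hu : u ∈ UJ n τ) : t * u * t⁻¹ ∈ UJ n τ := by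
  refine ⟨?_, (GUJ n τ).mul_mem ((GUJ n τ).mul_mem ht' hu.2) ((GUJ n τ).inv_mem ht')⟩
  intro i j hij
  rw [dia_conj_en ht, hu.1 _ _ hij]
  by_cases h : i = j
  · subst h; rw [if_pos rfl, mul_one, mul_inv_cancel₀ (dia_ne_zero ht i)]
  · rw [if_neg h, mul_zero, zero_mul]

/-- `ψ` conjugated by `t` -/
noncomputable def cj (ψ : UJ n τ →* ℂˣ) {t : GL (Fin n) K} (ht : t ∈ Dia n K) (ht' : t ∈ GUJ n τ) :
    UJ n τ →* ℂˣ where
  toFun u := ψ ⟨t * u.1 * t⁻¹, conj_mem_UJ ht ht' u.2⟩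
  map_one' := by
    rw [← map_one ψ]
    congr 1
    apply Subtype.ext
    change t * 1 * t⁻¹ = 1
    group
  map_mul' a b := by
    rw [← map_mul]
    congr 1
    apply Subtype.ext
    change t * (a.1 * b.1) * t⁻¹ = (t * a.1 * t⁻¹) * (t * b.1 * t⁻¹)
    group

omit [Finite K] in
theorem cj_apply (ψ : UJ n τ →* ℂˣ) {t : GL (Fin n) K} (ht : t ∈ Dia n K) (ht' : t ∈ GUJ n τ) (u : UJ n τ) :
    cj ψ ht ht' u = ψ ⟨t * u.1 * t⁻¹, conj_mem_UJ ht ht' u.2⟩ := rfl

omit [Finite K] in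
theorem dia_rev {t : GL (Fin n) K} (ht : t ∈ Dia n K) (ht' : t ∈ GUJ n τ) (i : Fin n) :
    t.1 i i * τ (t.1 i.rev i.rev) = 1 := by
  obtain ⟨d, rfl⟩ := exists_dg ht
  rw [dg_self, dg_self]
  exact (dg_mem_GUJ d).1 ht' i

theorem cj_xe (h : Frob τ q) (ψ : UJ n τ →* ℂˣ) {t : GL (Fin n) K} (ht : t ∈ Dia n K) (ht' : t ∈ GUJ n τ)
    {i j : Fin n} (hij : j.val = i.val + 1) (a : K) :
    cj ψ ht ht' (xe h i j a) = ψ (xe h i j (t.1 i i * (t.1 j j)⁻¹ * a)) := by
  rw [cj_apply]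
  refine psi_sup h ψ fun r s hrs => ?_
  rw [xe_en h le_rfl hij _ hrs, dia_conj_en ht, xe_en h le_rfl hij _ hrs, Xm_en, Xm_en]
  have e1 : ∀ k : Fin n, t.1 k.rev k.rev = (τ (t.1 k k))⁻¹ := by
    intro k
    have := dia_rev ht ht' k.rev
    rw [Fin.rev_rev] at this
    exact eq_inv_of_mul_eq_one_left this
  rw [mul_sub, sub_mul]
  congr 1
  · by_cases h1 : i = r ∧ j = s
    · rw [if_pos h1, if_pos h1, ← h1.1, ← h1.2]; ring
    · rw [if_neg h1, if_neg h1]; ring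
  · by_cases h1 : j.rev = r ∧ i.rev = s
    · rw [if_pos h1, if_pos h1, ← h1.1, ← h1.2, map_mul, map_mul, map_inv₀, e1, e1, inv_inv]
      ring
    · rw [if_neg h1, if_neg h1]; ring

end Cfsg.Agent.H835.Sd
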