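import Cfsg.Agent.H835.Sd.Root
import Cfsg.Agent.H835.Sd.UniP

/-!
# Linear characters of the unitriangular subgroup of `GUJ` (S4579, TL-5)

`triv_of_level` : a homomorphism from `UJ` to `ℂˣ` is trivial on the elements with zero superdiagonal.
-/

set_option autoImplicit false

namespace Cfsg.Agent.H835.Sd

open Matrix

variable {n : ℕ} {K : Type*} [Field K]

/-- the unitriangular subgroup of `GUJ` -/
def UJ (n : ℕ) {K : Type*} [Field K] (τ : K →+* K) : Subgroup (GL (Fin n) K) := Uni n K ⊓ GUJ n τ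

/-- the superdiagonals `1, …, k - 1` are zero -/
def Lv (k : ℕ) (g : GL (Fin n) K) : Prop := ∀ i j : Fin n, i < j → j.val < i.val + k → g.1 i j = 0

theorem Lv.mul_en {k : ℕ} {u v : GL (Fin n) K} (hu : u ∈ Uni n K) (hv : v ∈ Uni n K) (h : Lv k u) {i j : Fin n}
    (hij : i < j) (hj : j.val ≤ i.val + k) : (u * v).1 i j = u.1 i j + v.1 i j := by
  rw [en_mul, Finset.sum_eq_add j i hij.ne' (fun m _ hm => ?_) (by simp) (by simp)]
  · rw [uni_en_self hv, uni_en_self hu, mul_one, one_mul]
  · rcases lt_or_gt_of_ne hm.2 with h1 | h1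
    · rw [uni_en_of_lt hu h1, zero_mul]
    · rcases lt_or_gt_of_ne hm.1 with h2 | h2
      · rw [h i m h1 (lt_of_lt_of_le h2 hj), zero_mul]
      · rw [uni_en_of_lt hv h2, mul_zero]

theorem Lv.inv_en {k : ℕ} {u : GL (Fin n) K} (hu : u ∈ Uni n K) (h : Lv k u) {i j : Fin n}
    (hij : i < j) (hj : j.val ≤ i.val + k) : (u⁻¹).1 i j = -u.1 i j := by
  have h1 := Lv.mul_en hu ((Uni n K).inv_mem hu) h hij hj
  rw [mul_inv_cancel, en_one, if_neg hij.ne] at h1
  exact (neg_eq_of_add_eq_zero_right h1.symm).symm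

theorem Lv.mul {k : ℕ} {u v : GL (Fin n) K} (hu : u ∈ Uni n K) (hv : v ∈ Uni n K) (h : Lv k u) (h' : Lv k v) :
    Lv k (u * v) := fun i j hij hj => by
  rw [Lv.mul_en hu hv h hij hj.le, h i j hij hj, h' i j hij hj, add_zero]

theorem Lv.inv {k : ℕ} {u : GL (Fin n) K} (hu : u ∈ Uni n K) (h : Lv k u) : Lv k u⁻¹ := fun i j hij hj => by
  rw [Lv.inv_en hu h hij hj.le, h i j hij hj, neg_zero]

theorem Lv.one (k : ℕ) : Lv k (1 : GL (Fin n) K) := fun i j hij _ => by rw [en_one, if_neg hij.ne]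

theorem Lv.zero_one (g : GL (Fin n) K) : Lv 1 g := fun i j hij hj => by
  have : i.val < j.val := hij
  omega

theorem Lv.eq_one {u : GL (Fin n) K} (hu : u ∈ Uni n K) {k : ℕ} (hk : n ≤ k) (h : Lv k u) : u = 1 := by
  apply Units.ext
  ext i j
  rw [en_one]
  rcases le_or_gt j i with h1 | h1
  · rw [hu _ _ h1]
  · rw [if_neg h1.ne, h i j h1 (by have := j.2; omega)]

/-- equal entries on the `k`-th superdiagonal -/
theorem Lv.diff {k : ℕ} {u v : GL (Fin n) K} (hu : u ∈ Uni n K) (hv : v ∈ Uni n K) (h : Lv k u) (h' : Lv k v)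
    (e : ∀ i j : Fin n, j.val = i.val + k → u.1 i j = v.1 i j) : Lv (k + 1) (u⁻¹ * v) := by
  intro i j hij hj
  have h1 : j.val ≤ i.val + k := by omega
  rw [Lv.mul_en ((Uni n K).inv_mem hu) hv (h.inv hu) hij h1, Lv.inv_en hu h hij h1]
  rcases eq_or_lt_of_le h1 with h2 | h2
  · rw [e i j h2, neg_add_cancel]
  · rw [h i j hij h2, h' i j hij h2]; simp

/-- products with strictly upper triangular matrices -/
theorem mul_uni_en {M : Matrix (Fin n) (Fin n) K} {v : GL (Fin n) K} (hv : v ∈ Uni n K) {k : ℕ}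
    (hM : ∀ i j : Fin n, j.val < i.val + k → M i j = 0) {i j : Fin n} (hj : j.val ≤ i.val + k) :
    (M * v.1) i j = M i j := by
  rw [mul_apply, Finset.sum_eq_single j]
  · rw [uni_en_self hv, mul_one]
  · intro m _ hm
    rcases lt_or_gt_of_ne hm with h1 | h1
    · rw [hM i m (lt_of_lt_of_le h1 hj), zero_mul]
    · rw [uni_en_of_lt hv h1, mul_zero]
  · simp

/-- the product of a matrix of degree `≥ 1` and a matrix of degree `≥ k` -/
theorem deg_mul {A B X Y : Matrix (Fin n) (Fin n) K} {a b : ℕ}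
    (hA : ∀ i j : Fin n, j.val < i.val + a → A i j = 0) (hB : ∀ i j : Fin n, j.val < i.val + b → B i j = 0)
    (hX : ∀ i j : Fin n, j.val < i.val + a → X i j = 0) (hY : ∀ i j : Fin n, j.val < i.val + b → Y i j = 0)
    (hAX : ∀ i j : Fin n, j.val = i.val + a → A i j = X i j)
    (hBY : ∀ i j : Fin n, j.val = i.val + b → B i j = Y i j) {i j : Fin n} (hj : j.val ≤ i.val + (a + b)) :
    (A * B) i j = (X * Y) i j := by
  rw [mul_apply, mul_apply]
  refine Finset.sum_congr rfl fun m _ => ?_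
  rcases lt_trichotomy m.val (i.val + a) with h1 | h1 | h1
  · rw [hA _ _ h1, hX _ _ h1]; simp
  · rcases eq_or_lt_of_le (show j.val ≤ m.val + b by omega) with h2 | h2
    · rw [hAX _ _ h1, hBY _ _ h2]
    · rw [hB _ _ h2, hY _ _ h2]; simp
  · have h2 : j.val < m.val + b := by omega
    rw [hB _ _ h2, hY _ _ h2]; simp

theorem deg_mul_zero {A B : Matrix (Fin n) (Fin n) K} {a b : ℕ}
    (hA : ∀ i j : Fin n, j.val < i.val + a → A i j = 0) (hB : ∀ i j : Fin n, j.val < i.val + b → B i j = 0)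
    {i j : Fin n} (hj : j.val < i.val + (a + b)) : (A * B) i j = 0 := by
  rw [mul_apply]
  refine Finset.sum_eq_zero fun m _ => ?_
  rcases lt_or_ge m.val (i.val + a) with h1 | h1
  · rw [hA _ _ h1, zero_mul]
  · rw [hB _ _ (show j.val < m.val + b by omega), mul_zero]

/-- the commutator of `x` and `y`, with `y` in level `b` -/
theorem comm_en {x y : GL (Fin n) K} (hx : x ∈ Uni n K) (hy : y ∈ Uni n K) {b : ℕ} (hb : 1 ≤ b) (hyb : Lv b y)
    {X Y : Matrix (Fin n) (Fin n) K}
    (hX : ∀ i j : Fin n, j.val < i.val + 1 → X i j = 0) (hY : ∀ i j : Fin n, j.val < i.val + b → Y i j = 0)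
    (hxX : ∀ i j : Fin n, j.val = i.val + 1 → x.1 i j = X i j)
    (hyY : ∀ i j : Fin n, j.val = i.val + b → y.1 i j = Y i j) :
    Lv (1 + b) (x * y * x⁻¹ * y⁻¹) ∧ ∀ i j : Fin n, j.val = i.val + (1 + b) →
      (x * y * x⁻¹ * y⁻¹).1 i j = (X * Y - Y * X) i j := by
  have hv : (y * x)⁻¹ ∈ Uni n K := (Uni n K).inv_mem ((Uni n K).mul_mem hy hx)
  set A := x.1 - 1 with hA
  set B := y.1 - 1 with hB
  have hA0 : ∀ i j : Fin n, j.val < i.val + 1 → A i j = 0 := by
    intro i j hij
    rw [hA, Matrix.sub_apply, one_apply, hx _ _ (show j ≤ i from by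
      change j.val ≤ i.val
      omega), sub_self]
  have hB0 : ∀ i j : Fin n, j.val < i.val + b → B i j = 0 := by
    intro i j hij
    rw [hB, Matrix.sub_apply, one_apply]
    rcases le_or_gt j i with h1 | h1
    · rw [hy _ _ h1, sub_self]
    · rw [hyb i j h1 hij, if_neg h1.ne, sub_zero]
  have hAX : ∀ i j : Fin n, j.val = i.val + 1 → A i j = X i j := by
    intro i j hij
    rw [hA, Matrix.sub_apply, one_apply_ne (by rintro rfl; omega), sub_zero, hxX _ _ hij]
  have hBY : ∀ i j : Fin n, j.val = i.val + b → B i j = Y i j := by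
    intro i j hij
    rw [hB, Matrix.sub_apply, one_apply_ne (by rintro rfl; omega), sub_zero, hyY _ _ hij]
  have e1 : (x * y * x⁻¹ * y⁻¹).1 = 1 + (A * B - B * A) * ((y * x)⁻¹).1 := by
    have e2 : (A * B - B * A) = x.1 * y.1 - y.1 * x.1 := by
      rw [hA, hB]; noncomm_ring
    have e3 : (y * x).1 * ((y * x)⁻¹).1 = 1 := Units.mul_inv _
    rw [e2, sub_mul, ← Units.val_mul y x, e3, ← Units.val_mul, ← Units.val_mul]
    have e4 : x * y * x⁻¹ * y⁻¹ = x * y * (y * x)⁻¹ := by group
    rw [e4]; abel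
  have hC0 : ∀ i j : Fin n, j.val < i.val + (1 + b) → (A * B - B * A) i j = 0 := by
    intro i j hij
    rw [Matrix.sub_apply, deg_mul_zero hA0 hB0 hij, deg_mul_zero hB0 hA0 (by omega), sub_zero]
  constructor
  · intro i j hij hj
    rw [e1, Matrix.add_apply, one_apply_ne hij.ne, zero_add, mul_uni_en hv hC0 hj.le, hC0 _ _ hj]
  · intro i j hj
    have hne : i ≠ j := by rintro rfl; omega
    rw [e1, Matrix.add_apply, one_apply_ne hne, zero_add, mul_uni_en hv hC0 hj.le, Matrix.sub_apply,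
      Matrix.sub_apply, deg_mul hA0 hB0 hX hY hAX hBY hj.le, deg_mul hB0 hA0 hY hX hBY hAX (by omega)]

/-- the bracket of two root matrices -/
theorem bracket {τ : K →+* K} {i m j : Fin n} (him : i < m) (hmj : m < j) (c : K) (hτ : ∀ x, τ (τ x) = x)
    (hne : ∃ a, a ≠ τ a) : ∃ a b : K,
      Xm τ i m a * Xm τ m j b - Xm τ m j b * Xm τ i m a = Xm τ i j c := by
  obtain ⟨d, hd⟩ := hne
  have hd' : d - τ d ≠ 0 := sub_ne_zero.2 hd
  have hij : i < j := him.trans hmj
  have hr : i.rev ≠ j.rev := fun e => hij.ne (Fin.rev_injective e)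
  have exp : ∀ a b : K, Xm τ i m a * Xm τ m j b - Xm τ m j b * Xm τ i m a =
      Matrix.single i j (a * b) - Matrix.single i m a * Matrix.single j.rev m.rev (τ b) -
      Matrix.single m.rev i.rev (τ a) * Matrix.single m j b - (Matrix.single j.rev i.rev (τ b * τ a) -
      Matrix.single m j b * Matrix.single m.rev i.rev (τ a) - Matrix.single j.rev m.rev (τ b) *
        Matrix.single i m a) := by
    intro a b
    unfold Xm
    have h1 : Matrix.single m.rev i.rev (τ a) * Matrix.single j.rev m.rev (τ b) = 0 :=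
      single_mul_single_of_ne _ _ _ _ hr _
    have h2 : Matrix.single m j b * Matrix.single i m a = 0 := single_mul_single_of_ne _ _ _ _ hij.ne' _
    have h3 : Matrix.single i m a * Matrix.single m j b = Matrix.single i j (a * b) :=
      single_mul_single_same _ _ _ _ _
    have h4 : Matrix.single j.rev m.rev (τ b) * Matrix.single m.rev i.rev (τ a) =
        Matrix.single j.rev i.rev (τ b * τ a) := single_mul_single_same _ _ _ _ _
    simp only [sub_mul, mul_sub, h1, h2, h3, h4]
    abel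
  by_cases h1 : j = m.rev
  · -- `j.rev = m`
    have h2 : j.rev = m := by rw [h1, Fin.rev_rev]
    have h3 : i.rev ≠ m := fun e => hij.ne (by rw [h1, ← e, Fin.rev_rev])
    have h3' : m.rev ≠ i := fun e => h3 (by rw [← e, Fin.rev_rev])
    refine ⟨c * (d - τ d)⁻¹, d, ?_⟩
    have e1 : Matrix.single i m (c * (d - τ d)⁻¹) * Matrix.single j.rev m.rev (τ d) =
        Matrix.single i j (c * (d - τ d)⁻¹ * τ d) := by
      rw [h2, ← h1]; exact single_mul_single_same _ _ _ _ _
    have e2 : Matrix.single m.rev i.rev (τ (c * (d - τ d)⁻¹)) * Matrix.single m j d = 0 :=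
      single_mul_single_of_ne _ _ _ _ h3 _
    have e3 : Matrix.single m j d * Matrix.single m.rev i.rev (τ (c * (d - τ d)⁻¹)) =
        Matrix.single j.rev i.rev (d * τ (c * (d - τ d)⁻¹)) := by
      rw [h2, ← h1]; exact single_mul_single_same _ _ _ _ _
    have e4 : Matrix.single j.rev m.rev (τ d) * Matrix.single i m (c * (d - τ d)⁻¹) = 0 :=
      single_mul_single_of_ne _ _ _ _ h3' _
    rw [exp, e1, e2, e3, e4]
    have f1 : c * (d - τ d)⁻¹ * d - c * (d - τ d)⁻¹ * τ d = c := by
      rw [← mul_sub, mul_assoc, inv_mul_cancel₀ hd', mul_one]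
    have f2 : τ d * τ (c * (d - τ d)⁻¹) - d * τ (c * (d - τ d)⁻¹) = τ c := by
      rw [← sub_mul, map_mul, map_inv₀, map_sub, hτ]
      have : τ d - d ≠ 0 := sub_ne_zero.2 hd.symm
      field_simp
    rw [Xm]
    ext k l
    simp only [Matrix.sub_apply, single_apply, Matrix.zero_apply]
    split_ifs <;>
        first | ring1 | linear_combination f1 | linear_combination (-1 : K) * f2 | linear_combination f1 - f2
  · by_cases h4 : i.rev = m
    · have h5 : m.rev = i := by rw [← h4, Fin.rev_rev]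
      have h3 : m ≠ j.rev := fun e => h1 (by rw [e, Fin.rev_rev])
      refine ⟨d, c * (d - τ d)⁻¹, ?_⟩
      have e1 : Matrix.single i m d * Matrix.single j.rev m.rev (τ (c * (d - τ d)⁻¹)) = 0 :=
        single_mul_single_of_ne _ _ _ _ h3 _
      have e2 : Matrix.single m.rev i.rev (τ d) * Matrix.single m j (c * (d - τ d)⁻¹) =
          Matrix.single i j (τ d * (c * (d - τ d)⁻¹)) := by
        rw [h4, h5]; exact single_mul_single_same _ _ _ _ _
      have e3 : Matrix.single m j (c * (d - τ d)⁻¹) * Matrix.single m.rev i.rev (τ d) = 0 :=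
        single_mul_single_of_ne _ _ _ _ h1 _
      have e4 : Matrix.single j.rev m.rev (τ (c * (d - τ d)⁻¹)) * Matrix.single i m d =
          Matrix.single j.rev i.rev (τ (c * (d - τ d)⁻¹) * d) := by
        rw [h4, h5]; exact single_mul_single_same _ _ _ _ _
      rw [exp, e1, e2, e3, e4]
      have f1 : d * (c * (d - τ d)⁻¹) - τ d * (c * (d - τ d)⁻¹) = c := by
        rw [← sub_mul, mul_comm, mul_assoc, inv_mul_cancel₀ hd', mul_one]
      have f2 : τ (c * (d - τ d)⁻¹) * τ d - τ (c * (d - τ d)⁻¹) * d = τ c := by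
        rw [← mul_sub, map_mul, map_inv₀, map_sub, hτ]
        have : τ d - d ≠ 0 := sub_ne_zero.2 hd.symm
        field_simp
      rw [Xm]
      ext k l
      simp only [Matrix.sub_apply, single_apply, Matrix.zero_apply]
      split_ifs <;>
        first | ring1 | linear_combination f1 | linear_combination (-1 : K) * f2 | linear_combination f1 - f2
    · refine ⟨c, 1, ?_⟩
      have h3 : m ≠ j.rev := fun e => h1 (by rw [e, Fin.rev_rev])
      have h5 : m.rev ≠ i := fun e => h4 (by rw [← e, Fin.rev_rev])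
      have e1 : Matrix.single i m c * Matrix.single j.rev m.rev (τ 1) = 0 :=
        single_mul_single_of_ne _ _ _ _ h3 _
      have e2 : Matrix.single m.rev i.rev (τ c) * Matrix.single m j 1 = 0 :=
        single_mul_single_of_ne _ _ _ _ h4 _
      have e3 : Matrix.single m j 1 * Matrix.single m.rev i.rev (τ c) = 0 :=
        single_mul_single_of_ne _ _ _ _ h1 _
      have e4 : Matrix.single j.rev m.rev (τ 1) * Matrix.single i m c = 0 :=
        single_mul_single_of_ne _ _ _ _ h5 _
      rw [exp, e1, e2, e3, e4, map_one, mul_one, one_mul, Xm]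
      simp

end Cfsg.Agent.H835.Sd
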