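import Cfsg.Agent.H835.Sd.Level

/-!
# Linear characters of `UJ` are functions of the superdiagonal (S4579, TL-5)
-/

set_option autoImplicit false

namespace Cfsg.Agent.H835.Sd

open Matrix

variable {n : ℕ} {K : Type*} [Field K] [Finite K] {τ : K →+* K} {q : ℕ}

open Classical in
/-- the root elements as elements of `UJ` (`1` if `j ≤ i`) -/
noncomputable def xe (h : Frob τ q) (i j : Fin n) (a : K) : UJ n τ :=
  if hij : i < j then ⟨xr τ h.two_ne_zero hij.ne a, xr_mem_Uni h.two_ne_zero hij a,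
    xr_mem_GUJ h.invol h.two_ne_zero hij.ne a⟩ else 1

theorem xe_val (h : Frob τ q) {i j : Fin n} (hij : i < j) (a : K) :
    (xe h i j a).1 = xr τ h.two_ne_zero hij.ne a := by
  rw [xe, dif_pos hij]

omit [Finite K] in
theorem Xm_zero {k : ℕ} {i j : Fin n} (hij : j.val = i.val + k) (a : K) {r s : Fin n} (hrs : s.val ≠ r.val + k) :
    Xm τ i j a r s = 0 := by
  rw [Xm_en, if_neg, if_neg, sub_zero]
  · rintro ⟨rfl, rfl⟩
    rw [Fin.val_rev, Fin.val_rev] at hrs
    have := j.2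
    omega
  · rintro ⟨rfl, rfl⟩; exact hrs hij

theorem xe_lv (h : Frob τ q) {k : ℕ} (hk : 1 ≤ k) {i j : Fin n} (hij : j.val = i.val + k) (a : K) :
    Lv k (xe h i j a).1 := by
  have hlt : i < j := by change i.val < j.val; omega
  intro r s hrs hs
  rw [xe_val h hlt, xr_en h.two_ne_zero hlt a r s hrs (by omega), Xm_zero hij a (by omega)]

theorem xe_en (h : Frob τ q) {k : ℕ} (hk : 1 ≤ k) {i j : Fin n} (hij : j.val = i.val + k) (a : K) {r s : Fin n}
    (hrs : s.val = r.val + k) : (xe h i j a).1.1 r s = Xm τ i j a r s := by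
  have hlt : i < j := by change i.val < j.val; omega
  have hlt' : r < s := by change r.val < s.val; omega
  rw [xe_val h hlt, xr_en h.two_ne_zero hlt a r s hlt' (by omega)]

/-- a product of root elements on the `k`-th superdiagonal -/
theorem word (h : Frob τ q) {k : ℕ} (hk : 1 ≤ k) (f : Fin n × Fin n → K) (l : List (Fin n × Fin n))
    (hl : ∀ p ∈ l, p.2.val = p.1.val + k) :
    Lv k ((l.map fun p => xe h p.1 p.2 (f p)).prod).1 ∧ ∀ r s : Fin n, s.val = r.val + k →
      ((l.map fun p => xe h p.1 p.2 (f p)).prod).1.1 r s = (l.map fun p => Xm τ p.1 p.2 (f p) r s).sum := by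
  induction l with
  | nil =>
    refine ⟨Lv.one k, fun r s hrs => ?_⟩
    simp only [List.map_nil, List.prod_nil, List.sum_nil]
    change (1 : GL (Fin n) K).1 r s = 0
    rw [en_one, if_neg (by rintro rfl; omega)]
  | cons p l ih =>
    obtain ⟨h1, h2⟩ := ih fun p hp => hl p (List.mem_cons_of_mem _ hp)
    have hp := hl p List.mem_cons_self
    have h3 := xe_lv h hk hp (f p)
    rw [List.map_cons, List.prod_cons]
    generalize hY : (l.map fun p => xe h p.1 p.2 (f p)).prod = Y at h1 h2 ⊢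
    generalize hX : xe h p.1 p.2 (f p) = X at h3 ⊢
    have hXe : ∀ r s : Fin n, s.val = r.val + k → X.1.1 r s = Xm τ p.1 p.2 (f p) r s := by
      intro r s hrs
      rw [← hX]
      exact xe_en h hk hp (f p) hrs
    refine ⟨Lv.mul X.2.1 Y.2.1 h3 h1, fun r s hrs => ?_⟩
    have hlt : r < s := by change r.val < s.val; omega
    rw [List.map_cons, List.sum_cons, ← h2 r s hrs, ← hXe r s hrs, Subgroup.coe_mul]
    exact Lv.mul_en X.2.1 Y.2.1 h3 hlt hrs.le

omit [Finite K] in
/-- mirrored entries -/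
theorem UJ_mirror {k : ℕ} {u : GL (Fin n) K} (hu : u ∈ UJ n τ) (hk : Lv k u) {r s : Fin n} (hrs : r < s)
    (hs : s.val ≤ r.val + k) : τ (u.1 s.rev r.rev) = -u.1 r s := by
  rw [← GUJ_inv_en hu.2, Lv.inv_en hu.1 hk hrs hs]

variable {A : Type*} [CommGroup A]

omit [Finite K] in
theorem psi_diff {k : ℕ} (ψ : UJ n τ →* A) (hψ : ∀ v : UJ n τ, Lv (k + 1) v.1 → ψ v = 1) {u v : UJ n τ}
    (hu : Lv k u.1) (hv : Lv k v.1) (e : ∀ i j : Fin n, j.val = i.val + k → u.1.1 i j = v.1.1 i j) :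
    ψ u = ψ v := by
  have h1 := hψ (u⁻¹ * v) (Lv.diff u.2.1 v.2.1 hu hv e)
  rw [map_mul, map_inv, inv_mul_eq_one] at h1
  exact h1

theorem sq_eq (h : Frob τ q) {k : ℕ} (hk : 1 ≤ k) (ψ : UJ n τ →* A)
    (hψ : ∀ v : UJ n τ, Lv (k + 1) v.1 → ψ v = 1) (u : UJ n τ) (hu : Lv k u.1) :
    ψ u ^ 2 = ∏ p ∈ Finset.univ.filter (fun p : Fin n × Fin n => p.2.val = p.1.val + k),
      ψ (xe h p.1 p.2 (u.1.1 p.1 p.2)) := by
  set P := Finset.univ.filter (fun p : Fin n × Fin n => p.2.val = p.1.val + k) with hP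
  set f : Fin n × Fin n → K := fun p => u.1.1 p.1 p.2 with hf
  obtain ⟨h1, h2⟩ := word h hk f P.toList (fun p hp => by
    have := Finset.mem_toList.1 hp
    rw [hP, Finset.mem_filter] at this
    exact this.2)
  have h3 : ψ (u * u) = ψ ((P.toList.map fun p => xe h p.1 p.2 (f p)).prod) := by
    refine psi_diff ψ hψ (Lv.mul u.2.1 u.2.1 hu hu) h1 fun r s hrs => ?_
    have hlt : r < s := by change r.val < s.val; omega
    rw [h2 r s hrs]
    have h4 : (P.toList.map fun p => Xm τ p.1 p.2 (f p) r s).sum = ∑ p ∈ P, Xm τ p.1 p.2 (f p) r s :=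
      Finset.sum_map_toList P (fun p => Xm τ p.1 p.2 (f p) r s)
    rw [h4]
    have h5 : ∑ p ∈ P, Xm τ p.1 p.2 (f p) r s = u.1.1 r s - τ (u.1.1 s.rev r.rev) := by
      simp only [Xm_en]
      rw [Finset.sum_sub_distrib]
      congr 1
      · rw [Finset.sum_eq_single (r, s)]
        · rw [if_pos ⟨rfl, rfl⟩]
        · rintro ⟨a, b⟩ - hab
          rw [if_neg]
          rintro ⟨rfl, rfl⟩; exact hab rfl
        · intro h6
          exact absurd (show (r, s) ∈ P from Finset.mem_filter.2 ⟨Finset.mem_univ _, hrs⟩) h6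
      · rw [Finset.sum_eq_single (s.rev, r.rev)]
        · rw [if_pos ⟨Fin.rev_rev _, Fin.rev_rev _⟩]
        · rintro ⟨a, b⟩ - hab
          rw [if_neg]
          rintro ⟨h7, h8⟩
          apply hab
          change b.rev = r at h7
          change a.rev = s at h8
          rw [← h7, ← h8, Fin.rev_rev, Fin.rev_rev]
        · intro h6
          refine absurd (show (s.rev, r.rev) ∈ P from Finset.mem_filter.2 ⟨Finset.mem_univ _, ?_⟩) h6
          change (r.rev).val = (s.rev).val + k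
          rw [Fin.val_rev, Fin.val_rev]
          have := s.2
          omega
    rw [h5, UJ_mirror u.2 hu hlt hrs.le]
    have h6 : (u * u).1.1 r s = u.1.1 r s + u.1.1 r s := Lv.mul_en u.2.1 u.2.1 hu hlt hrs.le
    rw [h6]; ring
  rw [sq, ← map_mul, h3, map_list_prod, List.map_map]
  exact Finset.prod_map_toList P _

theorem eq_one_of_sq [Fact (1 < 2)] {u : UJ n τ} (h : Frob τ q) (ψ : UJ n τ →* A) (h2 : ψ u ^ 2 = 1) : ψ u = 1 := by
  obtain ⟨p, hp, hch, hp2, -⟩ := h.exists_char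
  have : Fact p.Prime := ⟨hp⟩
  obtain ⟨k, hk⟩ := Uni_isPGroup (n := n) (K := K) p ⟨u.1, u.2.1⟩
  have h0 : u.1 ^ p ^ k = 1 := congrArg Subtype.val hk
  have h1 : u ^ p ^ k = 1 := Subtype.ext h0
  have h3 : ψ u ^ p ^ k = 1 := by rw [← map_pow, h1, map_one]
  rw [← orderOf_eq_one_iff]
  have h4 : Nat.Coprime 2 (p ^ k) := Nat.coprime_two_left.2 ((hp.odd_of_ne_two hp2).pow)
  exact Nat.eq_one_of_dvd_coprimes h4 (orderOf_dvd_of_pow_eq_one h2) (orderOf_dvd_of_pow_eq_one h3)

/-- **A homomorphism to an abelian group is trivial on the elements with zero superdiagonal.** -/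
theorem triv_of_level (h : Frob τ q) (ψ : UJ n τ →* A) {k : ℕ} (hk : 2 ≤ k) (u : UJ n τ) (hu : Lv k u.1) :
    ψ u = 1 := by
  obtain ⟨d, hd⟩ : ∃ d, n ≤ k + d := ⟨n, by omega⟩
  induction d generalizing k u with
  | zero =>
    have : u = 1 := Subtype.ext (Lv.eq_one u.2.1 (by omega) hu)
    rw [this, map_one]
  | succ d ih =>
    have hψ : ∀ v : UJ n τ, Lv (k + 1) v.1 → ψ v = 1 := fun v hv => ih (by omega) v hv (by omega)
    have hf : Fact (1 < 2) := ⟨by norm_num⟩
    apply eq_one_of_sq h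
    rw [sq_eq h (by omega) ψ hψ u hu]
    refine Finset.prod_eq_one fun p hp => ?_
    obtain ⟨i, j⟩ := p
    have hij : j.val = i.val + k := (Finset.mem_filter.1 hp).2
    change ψ (xe h i j (u.1.1 i j)) = 1
    generalize u.1.1 i j = c
    -- the middle index
    let m : Fin n := ⟨i.val + 1, by have := j.2; omega⟩
    have hm : m.val = i.val + 1 := rfl
    have him : i < m := by change i.val < m.val; omega
    have hmj : m < j := by change m.val < j.val; omega
    obtain ⟨a, b, hab⟩ := bracket (τ := τ) him hmj c h.invol h.exists_ne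
    set x := xe h i m a with hx
    set y := xe h m j b with hy
    have hmj' : j.val = m.val + (k - 1) := by omega
    obtain ⟨h1, h2⟩ := comm_en (x := x.1) (y := y.1) x.2.1 y.2.1 (b := k - 1) (by omega)
      (xe_lv h (by omega) hmj' b) (X := Xm τ i m a) (Y := Xm τ m j b)
      (fun r s hrs => Xm_zero hm a (by omega)) (fun r s hrs => Xm_zero hmj' b (by omega))
      (fun r s hrs => xe_en h le_rfl hm a hrs) (fun r s hrs => xe_en h (by omega) hmj' b hrs)
    rw [show 1 + (k - 1) = k by omega] at h1 h2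
    have h3 : ψ (x * y * x⁻¹ * y⁻¹) = ψ (xe h i j c) := by
      refine psi_diff ψ hψ h1 (xe_lv h (by omega) hij c) fun r s hrs => ?_
      have h4 : (x * y * x⁻¹ * y⁻¹).1.1 r s = (Xm τ i m a * Xm τ m j b - Xm τ m j b * Xm τ i m a) r s := h2 r s hrs
      rw [h4, hab, xe_en h (by omega) hij c hrs]
    rw [← h3, map_mul, map_mul, map_mul, map_inv, map_inv]
    rw [mul_comm (ψ x) (ψ y), mul_inv_cancel_right, mul_inv_cancel]

/-- the value of a linear character -/
theorem sq_eq' (h : Frob τ q) (ψ : UJ n τ →* A) (u : UJ n τ) :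
    ψ u ^ 2 = ∏ p ∈ Finset.univ.filter (fun p : Fin n × Fin n => p.2.val = p.1.val + 1),
      ψ (xe h p.1 p.2 (u.1.1 p.1 p.2)) :=
  sq_eq h le_rfl ψ (fun v hv => triv_of_level h ψ le_rfl v hv) u (Lv.zero_one _)

theorem psi_ext (h : Frob τ q) (ψ φ : UJ n τ →* A)
    (e : ∀ (i j : Fin n) (a : K), j.val = i.val + 1 → ψ (xe h i j a) = φ (xe h i j a)) : ψ = φ := by
  have hf : Fact (1 < 2) := ⟨by norm_num⟩
  ext u
  have h1 : (ψ / φ) u = 1 := by
    apply eq_one_of_sq h
    rw [sq_eq' h (ψ / φ) u]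
    refine Finset.prod_eq_one fun p hp => ?_
    rw [MonoidHom.div_apply, e _ _ _ (Finset.mem_filter.1 hp).2, div_self']
  rw [MonoidHom.div_apply, div_eq_one] at h1
  exact h1

end Cfsg.Agent.H835.Sd
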