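import Cfsg.Agent.H835.Sd.Scal
import Cfsg.Agent.H55.Sd.Iface

/-!
# The groups `PGU`-like and `PSU`, and the hypotheses on the torus (S4579, TL-5)
-/

set_option autoImplicit false

namespace Cfsg.Agent.H835.Sd

open Matrix Cfsg.Agent.H150.Toral Cfsg.Agent.H55.Sd

variable {n : ℕ} {K : Type*} [Field K] [Finite K] {τ : K →+* K} {q : ℕ}
  {G' : Subgroup (GL (Fin n) K)} {H : Type*} [Group H]

namespace Quo

variable {π : G' →* H}

/-- an element of the torus centralising `U` is trivial -/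
theorem tor_eq_one (hQ : Quo τ q G' π) (hc : ∀ z : G', (∀ g, z * g = g * z) → π z = 1) {t : H} (ht : t ∈ TQ π)
    (hU : ∀ u ∈ UQ π, t * u = u * t) : t = 1 := by
  obtain ⟨z, hz, rfl⟩ := ht
  replace hz : z.1 ∈ Dia n K := hz
  apply hc
  have key : ∀ x ∈ UJ n τ, z.1 * x = x * z.1 := by
    intro x hx
    set w : G' := ⟨x, hQ.UJ_le hx⟩ with hw
    have h1 := hU (π w) ⟨w, hx.1, rfl⟩
    have h2 : π (z * w * z⁻¹ * w⁻¹) = 1 := by
      simp only [map_mul, map_inv]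
      rw [h1]
      group
    have h3 : z.1 * x * z.1⁻¹ * x⁻¹ ∈ Dia n K := hQ.kerD _ h2
    have h4 : z.1 * x * z.1⁻¹ * x⁻¹ ∈ Uni n K := mul_mem (conj_mem_UJ hz (hQ.h2 z.2) hx).1 (inv_mem hx.1)
    have h5 := dia_uni_eq_one h3 h4
    have h6 := mul_inv_eq_one.1 h5
    exact mul_inv_eq_iff_eq_mul.1 h6
  intro g
  apply Subtype.ext
  exact scal_comm hz (step_of_comm hQ.fr hz key) g.1

/-- the hypotheses of TL-2 -/
theorem torAut [Finite H] (hQ : Quo τ q G' π) (hc : ∀ z : G', (∀ g, z * g = g * z) → π z = 1) :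
    ∃ p : ℕ, TorAut p (UQ π) (TQ π) := by
  obtain ⟨p, hp, hK, hp2, hpd⟩ := hQ.fr.exists_char
  have : Fact p.Prime := ⟨hp⟩
  have hU : IsPGroup p (UQ π) := (IsPGroup.comap_subtype (Uni_isPGroup p)).map π
  have hT : ¬ p ∣ Nat.card (TQ π) := fun hd => hQ.fr.dia_card hp hpd (hd.trans (Subgroup.card_map_dvd _ π))
  exact ⟨p, {
    prime := hp
    odd := hp2
    isP := hU
    index := not_dvd_index hQ.sys hU hT hQ.mem_T_of_norm
    norm := normalizer_U hQ.sys hQ.mem_T_of_norm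
    comm := hQ.sys.comm
    cop := hT
    cen := center_eq_bot hQ.sys hQ.mem_T_of_norm fun t ht h => hQ.tor_eq_one hc ht h }⟩

end Quo

section model

variable (n τ)

omit [Finite K] in
theorem SUJ_le : SUJ n τ ≤ GUJ n τ := fun _ h => h.1

/-- the central elements of `GUJ` of determinant one -/
def Zc : Subgroup (GUJ n τ) := Subgroup.center (GUJ n τ) ⊓ (SUJ n τ).subgroupOf (GUJ n τ)

instance SUJ_normal : ((SUJ n τ).subgroupOf (GUJ n τ)).Normal := by
  refine ⟨fun x hx g => ?_⟩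
  have h1 : x.1.1.det = 1 := (mem_SUJ.1 (show x.1 ∈ SUJ n τ from hx)).2
  refine mem_SUJ.2 ⟨(g * x * g⁻¹).2, ?_⟩
  change (g.1 * x.1 * g.1⁻¹).1.det = 1
  have h2 : (g.1 * g.1⁻¹).1.det = 1 := by rw [mul_inv_cancel]; exact det_one
  rw [Units.val_mul, det_mul] at h2
  rw [Units.val_mul, Units.val_mul, det_mul, det_mul, h1, mul_one, h2]

instance Zc_normal : (Zc n τ).Normal := by
  unfold Zc
  infer_instance

/-- the quotient of `GUJ` -/
abbrev GG : Type _ := GUJ n τ ⧸ Zc n τ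

/-- the projection -/
def πG : GUJ n τ →* GG n τ := QuotientGroup.mk' (Zc n τ)

/-- the image of `SUJ` -/
def SS : Subgroup (GG n τ) := ((SUJ n τ).subgroupOf (GUJ n τ)).map (πG n τ)

omit [Finite K] in
theorem πG_surj : Function.Surjective (πG n τ) := QuotientGroup.mk'_surjective _

omit [Finite K] in
theorem πG_eq_one {z : GUJ n τ} : πG n τ z = 1 ↔ z ∈ Zc n τ := QuotientGroup.eq_one_iff z

instance SS_normal : (SS n τ).Normal := Subgroup.Normal.map inferInstance _ (πG_surj n τ)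

/-- the projection from `SUJ` -/
def πS : SUJ n τ →* SS n τ :=
  ((πG n τ).comp (Subgroup.inclusion (SUJ_le n τ))).codRestrict (SS n τ) fun x =>
    ⟨⟨x.1, SUJ_le n τ x.2⟩, x.2, rfl⟩

omit [Finite K] in
theorem πS_coe (x : SUJ n τ) : (πS n τ x : GG n τ) = πG n τ ⟨x.1, x.2.1⟩ := rfl

omit [Finite K] in
theorem πS_surj : Function.Surjective (πS n τ) := by
  rintro ⟨_, ⟨x, hx, rfl⟩⟩
  exact ⟨⟨x.1, hx⟩, rfl⟩

variable {n τ}

theorem πS_eq_one (h : Frob τ q) (hn : 3 ≤ n) {z : SUJ n τ} : πS n τ z = 1 ↔ ∀ g, z * g = g * z := by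
  rw [Subtype.ext_iff, πS_coe, Subgroup.coe_one, πG_eq_one]
  constructor
  · rintro ⟨h1, -⟩ g
    have h2 := congrArg Subtype.val (Subgroup.mem_center_iff.1 h1 ⟨g.1, SUJ_le n τ g.2⟩)
    exact Subtype.ext h2.symm
  · intro h1
    have h2 := (center_scal h hn (z := z.1) fun g hg => congrArg Subtype.val (h1 ⟨g, hg⟩)).2
    refine ⟨Subgroup.mem_center_iff.2 fun g => ?_, z.2⟩
    exact Subtype.ext (h2 g.1).symm

theorem ker_πS (h : Frob τ q) (hn : 3 ≤ n) : (πS n τ).ker = Subgroup.center (SUJ n τ) := by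
  ext z
  rw [MonoidHom.mem_ker, πS_eq_one h hn, Subgroup.mem_center_iff]
  exact ⟨fun h1 g => (h1 g).symm, fun h1 g => (h1 g).symm⟩

theorem quoS (h : Frob τ q) (hn : 3 ≤ n) : Quo τ q (SUJ n τ) (πS n τ) where
  fr := h
  hn := hn
  h1 := le_rfl
  h2 := SUJ_le n τ
  surj := πS_surj n τ
  kerD _ hz := (center_scal h hn fun g hg =>
    congrArg Subtype.val ((πS_eq_one h hn).1 hz ⟨g, hg⟩)).1
  kerC _ hz := (πS_eq_one h hn).1 hz

theorem quoG (h : Frob τ q) (hn : 3 ≤ n) : Quo τ q (GUJ n τ) (πG n τ) where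
  fr := h
  hn := hn
  h1 := SUJ_le n τ
  h2 := le_rfl
  surj := πG_surj n τ
  kerD z hz := (center_scal h hn (z := z.1) fun g hg =>
    (congrArg Subtype.val (Subgroup.mem_center_iff.1 ((πG_eq_one n τ).1 hz).1 ⟨g, SUJ_le n τ hg⟩)).symm).1
  kerC _ hz g := (Subgroup.mem_center_iff.1 ((πG_eq_one n τ).1 hz).1 g).symm

theorem torAut_SS (h : Frob τ q) (hn : 3 ≤ n) : ∃ p : ℕ, TorAut p (UQ (πS n τ)) (TQ (πS n τ)) :=
  (quoS h hn).torAut fun _ hz => (πS_eq_one h hn).2 hz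

end model

end Cfsg.Agent.H835.Sd
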