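import Cfsg.Agent.H835.Sd.Weyl
import Mathlib.GroupTheory.Sylow
import Mathlib.GroupTheory.GroupAction.Quotient

/-!
# Sylow 2-subgroups of the Weyl group of `GUJ`, `n` not a power of two (S4579, TL-5)
-/

set_option autoImplicit false

namespace Cfsg.Agent.H835.Sd

variable {n : ℕ}

/-- the centraliser of `rev` -/
def WW (n : ℕ) : Subgroup (Equiv.Perm (Fin n)) where
  carrier := {π | CR π}
  mul_mem' := fun ha hb => ha.mul hb
  one_mem' := fun _ => rfl
  inv_mem' := fun ha => ha.inv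

theorem mem_WW {π : Equiv.Perm (Fin n)} : π ∈ WW n ↔ CR π := Iff.rfl

theorem rv_mem : rv n ∈ WW n := fun k => by rw [rv_apply, rv_apply]

theorem rv_comm {π : Equiv.Perm (Fin n)} (h : CR π) : π * rv n = rv n * π := by
  ext i
  change (π i.rev).val = ((π i).rev).val
  rw [h]

/-- a 2-subgroup of odd index is maximal -/
theorem le_of_odd {Q Q' : Subgroup (Equiv.Perm (Fin n))} (hQ : Q ≤ Q') (hQ' : Q' ≤ WW n)
    (h2 : ∀ σ ∈ Q', ∃ k : ℕ, σ ^ 2 ^ k = 1) (ho : Odd (Q.relIndex (WW n))) : Q' ≤ Q := by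
  have hp : IsPGroup 2 Q' := by
    rintro ⟨σ, hσ⟩
    obtain ⟨k, hk⟩ := h2 σ hσ
    exact ⟨k, Subtype.ext hk⟩
  have h1 : Q.relIndex Q' ∣ Q.relIndex (WW n) := ⟨_, (Subgroup.relIndex_mul_relIndex Q Q' (WW n) hQ hQ').symm⟩
  have : Fact (Nat.Prime 2) := ⟨Nat.prime_two⟩
  obtain ⟨k, hk⟩ := hp.exists_card_eq
  have h3 : Q.relIndex Q' ∣ 2 ^ k := by rw [← hk]; exact Subgroup.relIndex_dvd_card _ _
  have h4 : Q.relIndex Q' = 1 :=
    Nat.eq_one_of_dvd_coprimes (Nat.Coprime.pow_left k (Nat.coprime_two_left.2 ho)) h3 h1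
  exact Subgroup.relIndex_eq_one.1 h4

theorem exists_Q (hn : ∀ k : ℕ, n ≠ 2 ^ k) (hn0 : 0 < n) {R : Subgroup (Equiv.Perm (Fin n))} (hR : R ≤ WW n)
    (ho : Odd (R.relIndex (WW n))) :
    ∃ Q ≤ R, Odd (Q.relIndex (WW n)) ∧ ∀ ρ ∈ Q, ∃ ρ₁ ∈ R, ∃ ρ₂ ∈ R, ρ = ρ₁ * ρ₂ ∧ (∃ i, ρ₁ i = i) ∧
      ∃ i, ρ₂ i = i := by
  have hf : Fact (Nat.Prime 2) := ⟨Nat.prime_two⟩
  obtain ⟨P⟩ : Nonempty (Sylow 2 R) := inferInstance
  set Q := (P : Subgroup R).map R.subtype with hQ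
  have hQR : Q ≤ R := Subgroup.map_subtype_le _
  have hQW : Q ≤ WW n := hQR.trans hR
  have hoQ : Odd (Q.relIndex (WW n)) := by
    rw [← Subgroup.relIndex_mul_relIndex Q R (WW n) hQR hR]
    refine Odd.mul ?_ ho
    have h1 : Q.relIndex R = (P : Subgroup R).index := by
      rw [hQ, Subgroup.relIndex, Subgroup.subgroupOf, Subgroup.comap_map_eq_self_of_injective R.subtype_injective]
    rw [h1]
    have := P.not_dvd_index
    rwa [← even_iff_two_dvd, Nat.not_even_iff_odd] at this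
  have hQ2 : ∀ σ ∈ Q, ∃ k : ℕ, σ ^ 2 ^ k = 1 := by
    rintro _ ⟨σ, hσ, rfl⟩
    obtain ⟨k, hk⟩ := P.2 ⟨σ, hσ⟩
    refine ⟨k, ?_⟩
    have h1 : σ ^ 2 ^ k = 1 := congrArg Subtype.val hk
    rw [← map_pow, h1, map_one]
  have rvrv : rv n * rv n = 1 := by
    ext i
    change ((i.rev).rev).val = i.val
    rw [Fin.rev_rev]
  -- `rev ∈ Q`
  have hrv : rv n ∈ Q := by
    let Q' : Subgroup (Equiv.Perm (Fin n)) :=
      { carrier := {σ | σ ∈ Q ∨ σ * rv n ∈ Q}
        mul_mem' := by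
          rintro a b (ha | ha) (hb | hb)
          · exact Or.inl (Q.mul_mem ha hb)
          · right; rw [mul_assoc]; exact Q.mul_mem ha hb
          · right
            have e : a * b * rv n = (a * rv n) * b := by rw [mul_assoc, rv_comm (hQW hb), mul_assoc]
            rw [e]; exact Q.mul_mem ha hb
          · left
            have e : a * b = (a * rv n) * (b * rv n) := by
              have h1 : rv n * (b * rv n) = b := by
                have h2 := rv_comm (hQW hb)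
                rw [← h2, mul_assoc, rvrv, mul_one]
              rw [mul_assoc, h1]
            rw [e]; exact Q.mul_mem ha hb
        one_mem' := Or.inl Q.one_mem
        inv_mem' := by
          rintro a (ha | ha)
          · exact Or.inl (Q.inv_mem ha)
          · right
            have h1 := Q.inv_mem ha
            have h2 := rv_comm (hQW h1)
            have e : a⁻¹ * rv n = (a * rv n)⁻¹ := by
              have h3 : (rv n)⁻¹ = rv n := inv_eq_of_mul_eq_one_right rvrv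
              have h4 : (a * rv n)⁻¹ = rv n * a⁻¹ := by rw [mul_inv_rev, h3]
              rw [h4] at h2 ⊢
              have h5 := congrArg (fun x => rv n * x) h2
              simp only [← mul_assoc, rvrv, one_mul] at h5
              exact h5
            rw [e]; exact h1 }
    have h1 : Q' ≤ Q := by
      refine le_of_odd (fun σ hσ => Or.inl hσ) ?_ ?_ hoQ
      · rintro σ (hσ | hσ)
        · exact hQW hσ
        · have := (WW n).mul_mem (hQW hσ) rv_mem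
          rwa [mul_assoc, rvrv, mul_one] at this
      · rintro σ (hσ | hσ)
        · exact hQ2 σ hσ
        · obtain ⟨k, hk⟩ := hQ2 _ hσ
          have hc : CR σ := by
            have := (WW n).mul_mem (hQW hσ) rv_mem
            rwa [mul_assoc, rvrv, mul_one] at this
          have h2 : Commute σ (rv n) := rv_comm hc
          refine ⟨k + 1, ?_⟩
          rw [h2.mul_pow] at hk
          have h3 : (rv n) ^ 2 = 1 := by rw [sq, rvrv]
          have h4 : σ ^ 2 ^ (k + 1) = (σ ^ 2 ^ k * rv n ^ 2 ^ k) ^ 2 := by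
            rw [(h2.pow_pow _ _).mul_pow, ← pow_mul, ← pow_mul, pow_succ, mul_comm (2 ^ k) 2, pow_mul (rv n) 2,
              h3, one_pow, mul_one]
          rw [h4, hk, one_pow]
    exact h1 (Or.inr (by rw [rvrv]; exact Q.one_mem))
  -- the orbit
  let x₀ : Fin n := ⟨0, hn0⟩
  let O : Set (Fin n) := {x | ∃ a ∈ Q, x = a x₀}
  have hO0 : x₀ ∈ O := ⟨1, Q.one_mem, rfl⟩
  have hOs : ∀ a ∈ Q, ∀ x, x ∈ O ↔ a x ∈ O := by
    intro a ha x
    constructor
    · rintro ⟨b, hb, rfl⟩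
      exact ⟨a * b, Q.mul_mem ha hb, rfl⟩
    · rintro ⟨b, hb, e⟩
      refine ⟨a⁻¹ * b, Q.mul_mem (Q.inv_mem ha) hb, ?_⟩
      change x = a⁻¹ (b x₀)
      rw [← e, pinv_self]
  have hOne : ∃ y, y ∉ O := by
    by_contra hcon
    push Not at hcon
    have hP : IsPGroup 2 Q := by
      rintro ⟨σ, hσ⟩
      obtain ⟨k, hk⟩ := hQ2 σ hσ
      exact ⟨k, Subtype.ext hk⟩
    obtain ⟨k, hk⟩ := hP.card_orbit x₀
    apply hn k
    have h1 : MulAction.orbit Q x₀ = Set.univ := by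
      rw [Set.eq_univ_iff_forall]
      intro x
      obtain ⟨a, ha, rfl⟩ := hcon x
      exact ⟨⟨a, ha⟩, rfl⟩
    rw [h1, Nat.card_congr (Equiv.Set.univ _), Nat.card_eq_fintype_card, Fintype.card_fin] at hk
    exact hk
  obtain ⟨y, hy⟩ := hOne
  have hrO : ∀ x, x ∈ O ↔ x.rev ∈ O := fun x => hOs _ hrv x
  -- the group `Q#`
  let Q' : Subgroup (Equiv.Perm (Fin n)) :=
    { carrier := {σ | CR σ ∧ ∃ a ∈ Q, ∃ b ∈ Q, (∀ x ∈ O, σ x = a x) ∧ ∀ x, x ∉ O → σ x = b x}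
      mul_mem' := by
        rintro σ σ' ⟨hσ, a, ha, b, hb, h1, h2⟩ ⟨hσ', a', ha', b', hb', h1', h2'⟩
        refine ⟨hσ.mul hσ', a * a', Q.mul_mem ha ha', b * b', Q.mul_mem hb hb', fun x hx => ?_, fun x hx => ?_⟩
        · change σ (σ' x) = a (a' x)
          rw [h1' x hx, h1 _ ((hOs a' ha' x).1 hx)]
        · change σ (σ' x) = b (b' x)
          rw [h2' x hx, h2 _ (fun h => hx ((hOs b' hb' x).2 h))]
      one_mem' := ⟨fun _ => rfl, 1, Q.one_mem, 1, Q.one_mem, fun _ _ => rfl, fun _ _ => rfl⟩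
      inv_mem' := by
        rintro σ ⟨hσ, a, ha, b, hb, h1, h2⟩
        refine ⟨hσ.inv, a⁻¹, Q.inv_mem ha, b⁻¹, Q.inv_mem hb, fun x hx => ?_, fun x hx => ?_⟩
        · apply σ.injective
          rw [self_pinv, h1 _ ((hOs a⁻¹ (Q.inv_mem ha) x).1 hx), self_pinv]
        · apply σ.injective
          rw [self_pinv, h2 _ (fun h => hx ((hOs b⁻¹ (Q.inv_mem hb) x).2 h)), self_pinv] }
  have hQ' : Q' ≤ Q := by
    refine le_of_odd (fun σ hσ => ⟨hQW hσ, σ, hσ, σ, hσ, fun _ _ => rfl, fun _ _ => rfl⟩) (fun σ hσ => hσ.1) ?_ hoQ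
    rintro σ ⟨hσ, a, ha, b, hb, h1, h2⟩
    obtain ⟨k, hk⟩ := hQ2 a ha
    obtain ⟨l, hl⟩ := hQ2 b hb
    refine ⟨k + l, ?_⟩
    have e1 : ∀ (m : ℕ) (x : Fin n), x ∈ O → (σ ^ m) x = (a ^ m) x ∧ (a ^ m) x ∈ O := by
      intro m
      induction m with
      | zero => intro x hx; exact ⟨rfl, hx⟩
      | succ m ih =>
        intro x hx
        obtain ⟨h3, h4⟩ := ih x hx
        rw [pow_succ', pow_succ']
        change σ ((σ ^ m) x) = a ((a ^ m) x) ∧ a ((a ^ m) x) ∈ O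
        rw [h3]
        exact ⟨h1 _ h4, (hOs a ha _).1 h4⟩
    have e2 : ∀ (m : ℕ) (x : Fin n), x ∉ O → (σ ^ m) x = (b ^ m) x ∧ (b ^ m) x ∉ O := by
      intro m
      induction m with
      | zero => intro x hx; exact ⟨rfl, hx⟩
      | succ m ih =>
        intro x hx
        obtain ⟨h3, h4⟩ := ih x hx
        rw [pow_succ', pow_succ']
        change σ ((σ ^ m) x) = b ((b ^ m) x) ∧ b ((b ^ m) x) ∉ O
        rw [h3]
        exact ⟨h2 _ h4, fun h => h4 ((hOs b hb _).2 h)⟩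
    ext x
    by_cases hx : x ∈ O
    · rw [(e1 _ x hx).1, pow_add, pow_mul, hk, one_pow]
    · rw [(e2 _ x hx).1, pow_add, mul_comm, pow_mul, hl, one_pow]
  refine ⟨Q, hQR, hoQ, fun ρ hρ => ?_⟩
  classical
  let ρ₁ : Equiv.Perm (Fin n) := Equiv.Perm.ofSubtype (ρ.subtypePerm (p := fun x => x ∈ O) (fun x => (hOs ρ hρ x).symm))
  have h1 : ∀ x ∈ O, ρ₁ x = ρ x := fun x hx => by
    rw [Equiv.Perm.ofSubtype_apply_of_mem _ hx]; rfl
  have h2 : ∀ x, x ∉ O → ρ₁ x = x := fun x hx => Equiv.Perm.ofSubtype_apply_of_not_mem _ hx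
  have h3 : ρ₁ ∈ Q := by
    apply hQ'
    refine ⟨fun x => ?_, ρ, hρ, 1, Q.one_mem, h1, h2⟩
    by_cases hx : x ∈ O
    · rw [h1 x hx, h1 _ ((hrO x).1 hx)]
      exact hQW hρ x
    · rw [h2 x hx, h2 _ (fun h => hx ((hrO x).2 h))]
  refine ⟨ρ₁, hQR h3, ρ₁⁻¹ * ρ, hQR (Q.mul_mem (Q.inv_mem h3) hρ), by group, ⟨y, h2 y hy⟩, ⟨x₀, ?_⟩⟩
  apply ρ₁.injective
  rw [h1 x₀ hO0]
  change ρ₁ (ρ₁⁻¹ (ρ x₀)) = ρ x₀
  rw [self_pinv]

end Cfsg.Agent.H835.Sd
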