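import Cfsg.Agent.H835.Sd.RegMap
import Cfsg.Agent.H835.Sd.PermQ

/-!
# The orbit of a linear character of the torus under the monomial group (S4579, TL-5)
-/

set_option autoImplicit false

namespace Cfsg.Agent.H835.Sd

open Matrix Cfsg.Agent.H150.Toral

variable {n : ℕ} {K : Type*} [Field K]

/-- the permutation of a monomial matrix -/
noncomputable def pm : Mon n K →* Equiv.Perm (Fin n) where
  toFun m := Classical.choose m.2
  map_one' := (Classical.choose_spec (1 : Mon n K).2).unique IsMon.one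
  map_mul' a b := (Classical.choose_spec (a * b).2).unique
    ((Classical.choose_spec a.2).mul (Classical.choose_spec b.2))

theorem pm_spec (m : Mon n K) : IsMon (pm m) m.1 := Classical.choose_spec m.2

theorem pm_eq {m : Mon n K} {π : Equiv.Perm (Fin n)} (h : IsMon π m.1) : pm m = π := (pm_spec m).unique h

/-- conjugation of a diagonal element -/
theorem conj_dg {m : GL (Fin n) K} {π : Equiv.Perm (Fin n)} (hm : IsMon π m) (d : Fin n → Kˣ) :
    m * dg d * m⁻¹ = dg fun k => d (π⁻¹ k) := by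
  apply Units.ext
  ext i j
  obtain ⟨i, rfl⟩ := π.surjective i
  obtain ⟨j, rfl⟩ := π.surjective j
  rw [hm.conj_en, dg_en, dg_en]
  by_cases h : i = j
  · subst h
    rw [if_pos rfl, if_pos rfl, pinv_self, mul_comm (m.1 (π i) i), mul_inv_cancel_right₀ (hm.ne_zero i)]
  · rw [if_neg h, if_neg (fun e => h (π.injective e)), mul_zero, zero_mul]

variable [Finite K] {τ : K →+* K} {q : ℕ} {G' : Subgroup (GL (Fin n) K)} {H : Type*} [Group H]

namespace Quo

variable {π : G' →* H}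

theorem conj_mem (hQ : Quo τ q G' π) (m : (Mon n K).subgroupOf G') (t : TQ π) :
    (π m.1)⁻¹ * (t : H) * π m.1 ∈ TQ π := hQ.sys.NT' ⟨m.1, m.2, rfl⟩ t.2

/-- `t ↦ s (m⁻¹ t m)` -/
def act (hQ : Quo τ q G' π) (m : (Mon n K).subgroupOf G') (s : TQ π →* ℂˣ) : TQ π →* ℂˣ where
  toFun t := s ⟨(π m.1)⁻¹ * t * π m.1, hQ.conj_mem m t⟩
  map_one' := by
    rw [← map_one s]
    congr 1
    apply Subtype.ext
    change (π m.1)⁻¹ * 1 * π m.1 = 1
    group
  map_mul' a b := by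
    rw [← map_mul]
    congr 1
    apply Subtype.ext
    change (π m.1)⁻¹ * ((a : H) * b) * π m.1 = ((π m.1)⁻¹ * a * π m.1) * ((π m.1)⁻¹ * b * π m.1)
    group

theorem act_apply (hQ : Quo τ q G' π) (m : (Mon n K).subgroupOf G') (s : TQ π →* ℂˣ) (t : TQ π) :
    hQ.act m s t = s ⟨(π m.1)⁻¹ * t * π m.1, hQ.conj_mem m t⟩ := rfl

/-- the action of the monomial group -/
@[reducible] def mulAction (hQ : Quo τ q G' π) : MulAction ((Mon n K).subgroupOf G') (TQ π →* ℂˣ) where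
  smul m s := hQ.act m s
  one_smul s := by
    ext t
    change ((hQ.act 1 s t : ℂˣ) : ℂ) = s t
    rw [act_apply]
    congr 2
    apply Subtype.ext
    change (π 1)⁻¹ * (t : H) * π 1 = t
    rw [map_one]; group
  mul_smul a b s := by
    ext t
    change ((hQ.act (a * b) s t : ℂˣ) : ℂ) = hQ.act a (hQ.act b s) t
    rw [act_apply, act_apply, act_apply]
    congr 2
    apply Subtype.ext
    change (π (a.1 * b.1))⁻¹ * (t : H) * π (a.1 * b.1) = (π b.1)⁻¹ * ((π a.1)⁻¹ * t * π a.1) * π b.1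
    rw [map_mul]; group

/-- the permutation of an element of `Mon ∩ G'` -/
noncomputable def pmg (G' : Subgroup (GL (Fin n) K)) : (Mon n K).subgroupOf G' →* Equiv.Perm (Fin n) :=
  pm.comp ((G'.subtype.comp ((Mon n K).subgroupOf G').subtype).codRestrict (Mon n K) fun m => m.2)

omit [Finite K] in
theorem pmg_spec (m : (Mon n K).subgroupOf G') : IsMon (pmg G' m) m.1.1 := pm_spec _

omit [Finite K] in
theorem pmg_eq {m : (Mon n K).subgroupOf G'} {ρ : Equiv.Perm (Fin n)} (h : IsMon ρ m.1.1) : pmg G' m = ρ :=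
  (pmg_spec m).unique h

theorem pmg_range (hQ : Quo τ q G' π) : (pmg G').range = WW n := by
  apply le_antisymm
  · rintro _ ⟨m, rfl⟩
    exact GUJ_perm (pmg_spec m) (hQ.h2 m.1.2)
  · intro ρ hρ
    obtain ⟨m, hm, hm'⟩ := exists_rep hQ.fr (by have := hQ.hn; omega) hρ
    exact ⟨⟨⟨m, hQ.h1 hm⟩, ⟨ρ, hm'⟩⟩, pmg_eq hm'⟩

/-- `m` fixes `s` -/
def Fx (hQ : Quo τ q G' π) (s : TQ π →* ℂˣ) (m : (Mon n K).subgroupOf G') : Prop := hQ.act m s = s

/-- the stabiliser of `s` in the Weyl group -/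
noncomputable def Rs (hQ : Quo τ q G' π) (s : TQ π →* ℂˣ) : Subgroup (Equiv.Perm (Fin n)) :=
  letI := hQ.mulAction
  (MulAction.stabilizer ((Mon n K).subgroupOf G') s).map (pmg G')

theorem mem_Rs (hQ : Quo τ q G' π) (s : TQ π →* ℂˣ) {ρ : Equiv.Perm (Fin n)} :
    ρ ∈ hQ.Rs s ↔ ∃ m : (Mon n K).subgroupOf G', hQ.act m s = s ∧ IsMon ρ m.1.1 := by
  constructor
  · rintro ⟨m, hm, rfl⟩
    exact ⟨m, hm, pmg_spec m⟩
  · rintro ⟨m, hm, hm'⟩
    exact ⟨m, hm, pmg_eq hm'⟩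

theorem Rs_le (hQ : Quo τ q G' π) (s : TQ π →* ℂˣ) : hQ.Rs s ≤ WW n := by
  rw [← hQ.pmg_range]
  rintro _ ⟨m, -, rfl⟩
  exact ⟨m, rfl⟩

theorem orb_card [Finite H] (hQ : Quo τ q G' π) (s : TQ π →* ℂˣ) :
    (orb (TQ π) (NQ π) s).ncard = (hQ.Rs s).relIndex (WW n) := by
  let _ := hQ.mulAction
  have h1 : MulAction.orbit ((Mon n K).subgroupOf G') s = orb (TQ π) (NQ π) s := by
    ext s'
    constructor
    · rintro ⟨m, rfl⟩
      refine ⟨π m.1, ⟨m.1, m.2, rfl⟩, fun a b hab => ?_⟩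
      change hQ.act m s a = s b
      rw [act_apply]
      congr 1
      exact Subtype.ext hab.symm
    · rintro ⟨_, ⟨m, hm, rfl⟩, hc⟩
      refine ⟨⟨m, hm⟩, ?_⟩
      ext t
      change ((hQ.act ⟨m, hm⟩ s t : ℂˣ) : ℂ) = s' t
      rw [act_apply, ← hc t ⟨(π m)⁻¹ * t * π m, hQ.conj_mem ⟨m, hm⟩ t⟩ rfl]
  rw [← h1, ← MulAction.index_stabilizer]
  have h2 : (pmg G').ker ≤ MulAction.stabilizer ((Mon n K).subgroupOf G') s := by
    intro m hm
    rw [MonoidHom.mem_ker] at hm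
    have h3 : IsMon 1 m.1.1 := by rw [← hm]; exact pmg_spec m
    rw [MulAction.mem_stabilizer_iff]
    ext t
    change ((hQ.act m s t : ℂˣ) : ℂ) = s t
    rw [act_apply]
    congr 2
    apply Subtype.ext
    change (π m.1)⁻¹ * (t : H) * π m.1 = t
    have h4 := hQ.sys.comm (π m.1) ⟨m.1, h3, rfl⟩ t t.2
    rw [mul_assoc, ← h4]; group
  rw [← Subgroup.comap_map_eq_self h2, Subgroup.index_comap, hQ.pmg_range]
  rfl

end Quo

end Cfsg.Agent.H835.Sd
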