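import Cfsg.Agent.H835.Sd.NotGen
import Cfsg.Agent.H835.Sd.GUSys
import Cfsg.Agent.H55.Sd.Iface

/-!
# Regular characters in quotients of groups between `SUJ` and `GUJ` (S4579, TL-5)
-/

set_option autoImplicit false

namespace Cfsg.Agent.H835.Sd

open Matrix Cfsg.Agent.H150.Toral

universe u

section stable

variable {S : Type u} [Group S] [Finite S] {U T : Subgroup S}

theorem mem_iff_of_le {V : Subgroup S} {α : MulAut S} (hα : ∀ u ∈ V, α u ∈ V) (u : S) : α u ∈ V ↔ u ∈ V := by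
  refine ⟨fun h => ?_, hα u⟩
  have h1 : V.map α.toMonoidHom = V := by
    apply Subgroup.eq_of_le_of_card_ge
    · rintro _ ⟨x, hx, rfl⟩; exact hα x hx
    · exact (Nat.card_congr (V.equivMapOfInjective α.toMonoidHom α.injective).toEquiv).le
  rw [← h1] at h
  obtain ⟨x, hx, e⟩ := h
  rw [← α.injective e]; exact hx

theorem reg_stable {ψ ψ' : U →* ℂˣ} {α : MulAut S} (hU : ∀ u ∈ U, α u ∈ U) (hT : ∀ t ∈ T, α t ∈ T)
    (e : ∀ (u : U) (h : α u ∈ U), ψ' u = ψ ⟨α u, h⟩)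
    (hψ : Reg U T (Subgroup.normalizer (T : Set S)) ψ) : Reg U T (Subgroup.normalizer (T : Set S)) ψ' := by
  obtain ⟨n₀, hn₀, ht, hu⟩ := hψ
  have hN : ∀ n : S, α n ∈ Subgroup.normalizer (T : Set S) ↔ n ∈ Subgroup.normalizer (T : Set S) := by
    intro n
    rw [Subgroup.mem_normalizer_iff, Subgroup.mem_normalizer_iff]
    constructor
    · intro h t
      have h1 := h (α t)
      rw [← map_inv, ← map_mul, ← map_mul, mem_iff_of_le hT, mem_iff_of_le hT] at h1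
      exact h1
    · intro h t
      obtain ⟨t, rfl⟩ := α.surjective t
      rw [← map_inv, ← map_mul, ← map_mul, mem_iff_of_le hT, mem_iff_of_le hT]
      exact h t
  have hTr : ∀ n : S, Triv U ψ' n ↔ Triv U ψ (α n) := by
    intro n
    constructor
    · rintro h ⟨u, hu⟩ hc
      obtain ⟨u, rfl⟩ := α.surjective u
      have hu' : u ∈ U := (mem_iff_of_le hU u).1 hu
      have h1 := h ⟨u, hu'⟩ (by
        change (α n)⁻¹ * α u * α n ∈ U at hc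
        rw [← map_inv, ← map_mul, ← map_mul, mem_iff_of_le hU] at hc
        exact hc)
      rw [e ⟨u, hu'⟩ hu] at h1
      exact h1
    · rintro h ⟨u, hu⟩ hc
      rw [e ⟨u, hu⟩ (hU u hu)]
      apply h
      change (α n)⁻¹ * α u * α n ∈ U
      rw [← map_inv, ← map_mul, ← map_mul, mem_iff_of_le hU]
      exact hc
  obtain ⟨n₁, rfl⟩ := α.surjective n₀
  refine ⟨n₁, (hN n₁).1 hn₀, (hTr n₁).2 ht, fun n hn htn => ?_⟩
  have h1 := hu (α n) ((hN n).2 hn) ((hTr n).1 htn)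
  rw [← map_inv, ← map_mul, mem_iff_of_le hT] at h1
  exact h1

theorem psiStable : Cfsg.Agent.H55.Sd.PsiStable U T {ψ | Reg U T (Subgroup.normalizer (T : Set S)) ψ} :=
  fun _ hU hT _ hψ _ e => reg_stable hU hT e hψ

end stable

section bridge

variable {n : ℕ} {K : Type*} [Field K] [Finite K] {τ : K →+* K} {q : ℕ} {G' : Subgroup (GL (Fin n) K)}
  {H : Type*} [Group H]

/-- the data of a quotient of a group between `SUJ` and `GUJ` -/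
structure Quo (τ : K →+* K) (q : ℕ) (G' : Subgroup (GL (Fin n) K)) (π : G' →* H) : Prop where
  fr : Frob τ q
  hn : 3 ≤ n
  h1 : SUJ n τ ≤ G'
  h2 : G' ≤ GUJ n τ
  surj : Function.Surjective π
  kerD : ∀ z, π z = 1 → z.1 ∈ Dia n K
  kerC : ∀ z, π z = 1 → ∀ g, z * g = g * z

/-- the image of `Uni` -/
abbrev UQ (π : G' →* H) : Subgroup H := ((Uni n K).subgroupOf G').map π
/-- the image of `Dia` -/
abbrev TQ (π : G' →* H) : Subgroup H := ((Dia n K).subgroupOf G').map π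
/-- the image of `Mon` -/
abbrev NQ (π : G' →* H) : Subgroup H := ((Mon n K).subgroupOf G').map π

namespace Quo

variable {π : G' →* H}

theorem sys0 (hQ : Quo τ q G' π) :
    Sys ((Uni n K).subgroupOf G') ((Dia n K).subgroupOf G') ((Mon n K).subgroupOf G') :=
  hQ.fr.sys hQ.hn hQ.h1 hQ.h2

theorem sys (hQ : Quo τ q G' π) : Sys (UQ π) (TQ π) (NQ π) :=
  sys_map hQ.sys0 π hQ.surj hQ.kerD hQ.kerC

theorem UJ_le (hQ : Quo τ q G' π) : UJ n τ ≤ G' := fun _ hu => hQ.h1 (Uni_inf_le hu)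

/-- the map from `UJ` to the image of `Uni` -/
def iU (hQ : Quo τ q G' π) : UJ n τ →* UQ π where
  toFun u := ⟨π ⟨u.1, hQ.UJ_le u.2⟩, ⟨_, u.2.1, rfl⟩⟩
  map_one' := Subtype.ext (map_one π)
  map_mul' a b := Subtype.ext (map_mul π ⟨a.1, hQ.UJ_le a.2⟩ ⟨b.1, hQ.UJ_le b.2⟩)

theorem iU_coe (hQ : Quo τ q G' π) (u : UJ n τ) : (hQ.iU u : H) = π ⟨u.1, hQ.UJ_le u.2⟩ := rfl

theorem iU_surj (hQ : Quo τ q G' π) : Function.Surjective hQ.iU := by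
  rintro ⟨_, ⟨⟨u, hu⟩, hu', rfl⟩⟩
  exact ⟨⟨u, hu', hQ.h2 hu⟩, rfl⟩

theorem triv_iff (hQ : Quo τ q G' π) (ψ : UQ π →* ℂˣ) (m : G') :
    Triv (UQ π) ψ (π m) ↔ TrivJ (ψ.comp hQ.iU) m.1 := by
  constructor
  · intro h u hu
    apply h
    rw [iU_coe, ← map_inv, ← map_mul, ← map_mul]
    exact ⟨_, hu, rfl⟩
  · intro h uH hu
    obtain ⟨u, rfl⟩ := hQ.iU_surj uH
    apply h
    rw [iU_coe, ← map_inv, ← map_mul, ← map_mul] at hu
    obtain ⟨v, hv, e⟩ := hu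
    set w : G' := ⟨u.1, hQ.UJ_le u.2⟩ with hw
    have hz : π (m⁻¹ * w * m * v⁻¹) = 1 := by
      rw [map_mul, ← e, map_inv, mul_inv_cancel]
    have hB : m⁻¹ * w * m ∈ hQ.sys0.B := by
      have e2 : m⁻¹ * w * m = (m⁻¹ * w * m * v⁻¹) * v := by group
      rw [e2]
      exact mul_mem (hQ.sys0.T_le (hQ.kerD _ hz)) (hQ.sys0.U_le hv)
    exact hQ.sys0.conj_mem_U (u := w) u.2.1 hB

theorem reg_iff (hQ : Quo τ q G' π) (ψ : UQ π →* ℂˣ) :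
    Reg (UQ π) (TQ π) (NQ π) ψ ↔ Gen hQ.fr (ψ.comp hQ.iU) := by
  have hrv : CR (rv n) := by
    intro k
    rw [rv_apply, rv_apply]
  obtain ⟨m₀, hm₀, hm₀'⟩ := exists_rep hQ.fr (by have := hQ.hn; omega) hrv
  have hDia : ∀ {m₁ m₂ : G'} {ρ₁ ρ₂ : Equiv.Perm (Fin n)}, IsMon ρ₁ m₁.1 → IsMon ρ₂ m₂.1 →
      (π m₁)⁻¹ * π m₂ ∈ TQ π → ρ₁ = ρ₂ := by
    intro m₁ m₂ ρ₁ ρ₂ h1 h2 h3
    rw [← map_inv, ← map_mul] at h3
    obtain ⟨t, ht, e⟩ := h3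
    have hz : π (t⁻¹ * (m₁⁻¹ * m₂)) = 1 := by rw [map_mul, map_inv, e, inv_mul_cancel]
    have h4 := (Dia n K).mul_mem (show (t : G').1 ∈ Dia n K from ht) (hQ.kerD _ hz)
    have h5 : t.1 * (t⁻¹ * (m₁⁻¹ * m₂) : G').1 = m₁.1⁻¹ * m₂.1 := by
      push_cast
      group
    rw [h5] at h4
    have h6 := (mem_Dia_iff.1 h4).unique (h1.inv.mul h2)
    exact (inv_mul_eq_one.1 h6.symm)
  constructor
  · rintro ⟨n₀, hn₀, ht, hu⟩
    by_contra hcon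
    obtain ⟨m₁, hm₁, ρ, hm₁', hρ, htr⟩ := exists_nongen hQ.fr hcon
    have h1 := hu (π ⟨m₀, hQ.h1 hm₀⟩) ⟨_, ⟨_, hm₀'⟩, rfl⟩ ((hQ.triv_iff ψ ⟨m₀, hQ.h1 hm₀⟩).2 (triv_rev _ hm₀'))
    have h2 := hu (π ⟨m₁, hQ.h1 hm₁⟩) ⟨_, ⟨_, hm₁'⟩, rfl⟩ ((hQ.triv_iff ψ ⟨m₁, hQ.h1 hm₁⟩).2 htr)
    have h3 := (TQ π).mul_mem ((TQ π).inv_mem h1) h2
    have h4 : (n₀⁻¹ * π ⟨m₀, hQ.h1 hm₀⟩)⁻¹ * (n₀⁻¹ * π ⟨m₁, hQ.h1 hm₁⟩) =
        (π ⟨m₀, hQ.h1 hm₀⟩)⁻¹ * π ⟨m₁, hQ.h1 hm₁⟩ := by group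
    rw [h4] at h3
    exact hρ (hDia hm₀' hm₁' h3).symm
  · intro hg
    refine ⟨π ⟨m₀, hQ.h1 hm₀⟩, ⟨_, ⟨_, hm₀'⟩, rfl⟩, (hQ.triv_iff ψ _).2 (triv_rev _ hm₀'), ?_⟩
    rintro _ ⟨m, ⟨ρ, hm⟩, rfl⟩ htr
    have h1 := (hQ.triv_iff ψ m).1 htr
    have h2 := eq_rev_of_triv hQ.fr hg (GUJ_perm hm (hQ.h2 m.2)) hm h1
    rw [← map_inv, ← map_mul]
    refine ⟨_, ?_, rfl⟩
    change m₀⁻¹ * m.1 ∈ Dia n K
    rw [h2] at hm
    have h3 := hm₀'.inv.mul hm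
    rw [inv_mul_cancel] at h3
    exact h3

end Quo

end bridge

end Cfsg.Agent.H835.Sd
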