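import Cfsg.Agent.H835.Sd.Ext

/-!
# Scalars, normalisers and centralisers in quotients of `SUJ`, `GUJ` (S4579, TL-5)
-/

set_option autoImplicit false

namespace Cfsg.Agent.H835.Sd

open Matrix Cfsg.Agent.H150.Toral

variable {n : ℕ} {K : Type*} [Field K]

theorem dia_eq_of_step {z : GL (Fin n) K} (hs : ∀ i j : Fin n, j.val = i.val + 1 → z.1 i i = z.1 j j) (i j : Fin n) :
    z.1 i i = z.1 j j := by
  have h0 : ∀ (k : ℕ) (hk : k < n) (h0 : 0 < n), z.1 ⟨0, h0⟩ ⟨0, h0⟩ = z.1 ⟨k, hk⟩ ⟨k, hk⟩ := by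
    intro k
    induction k with
    | zero => intro _ _; rfl
    | succ k ih =>
      intro hk h0
      rw [ih (by omega) h0]
      exact hs ⟨k, by omega⟩ ⟨k + 1, hk⟩ rfl
  have hn : 0 < n := by have := i.2; omega
  exact (h0 i.val i.2 hn).symm.trans (h0 j.val j.2 hn)

/-- scalar matrices are central -/
theorem scal_comm {z : GL (Fin n) K} (hz : z ∈ Dia n K)
    (hs : ∀ i j : Fin n, j.val = i.val + 1 → z.1 i i = z.1 j j) (g : GL (Fin n) K) : z * g = g * z := by
  apply Units.ext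
  ext i j
  rw [dia_mul_en hz, mul_dia_en hz, dia_eq_of_step hs i j, mul_comm]

theorem dia_uni_eq_one {z : GL (Fin n) K} (hz : z ∈ Dia n K) (hu : z ∈ Uni n K) : z = 1 := by
  apply Units.ext
  ext i j
  change z.1 i j = (1 : GL (Fin n) K).1 i j
  rw [en_one]
  by_cases h : i = j
  · subst h; rw [if_pos rfl, uni_en_self hu]
  · rw [if_neg h, hz _ _ h]

variable [Finite K] {τ : K →+* K} {q : ℕ}

/-- a root element with non-zero entry -/
theorem exists_xr (h : Frob τ q) {i j : Fin n} (hij : j.val = i.val + 1) :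
    ∃ x ∈ UJ n τ, x.1 i j ≠ 0 := by
  obtain ⟨a, ha⟩ := h.exists_ne
  refine ⟨(xe h i j a).1, (xe h i j a).2, ?_⟩
  rw [xe_en h le_rfl hij a hij, Xm_en, if_pos (⟨rfl, rfl⟩ : i = i ∧ j = j)]
  by_cases h1 : j.rev = i ∧ i.rev = j
  · rw [if_pos h1]; exact sub_ne_zero.2 ha
  · rw [if_neg h1, sub_zero]
    rintro rfl
    exact ha (map_zero τ).symm

/-- an element of `GL` commuting with `UJ` which is diagonal is scalar -/
theorem step_of_comm (h : Frob τ q) {z : GL (Fin n) K} (hz : z ∈ Dia n K) (hc : ∀ x ∈ UJ n τ, z * x = x * z)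
    (i j : Fin n) (hij : j.val = i.val + 1) : z.1 i i = z.1 j j := by
  obtain ⟨x, hx, hx0⟩ := exists_xr h hij
  have h1 : (z * x).1 i j = (x * z).1 i j := by rw [hc x hx]
  rw [dia_mul_en hz, mul_dia_en hz, mul_comm] at h1
  exact mul_left_cancel₀ hx0 h1

/-- the centre of `SUJ` consists of scalars -/
theorem center_scal (h : Frob τ q) (hn : 3 ≤ n) {z : GL (Fin n) K} (hc : ∀ g ∈ SUJ n τ, z * g = g * z) :
    z ∈ Dia n K ∧ ∀ g : GL (Fin n) K, z * g = g * z := by
  have hz : z ∈ Dia n K := by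
    intro i j hij
    obtain ⟨t, ht, htS, -, hne⟩ := h.sep hn hij
    have h1 : (z * t).1 i j = (t * z).1 i j := by rw [hc t htS]
    rw [dia_mul_en ht, mul_dia_en ht, mul_comm, ← sub_eq_zero, ← sub_mul] at h1
    exact (mul_eq_zero.1 h1).resolve_left (sub_ne_zero.2 hne.symm)
  exact ⟨hz, scal_comm hz (step_of_comm h hz fun x hx => hc x (Uni_inf_le hx))⟩

variable {G' : Subgroup (GL (Fin n) K)} {H : Type*} [Group H]

namespace Quo

variable {π : G' →* H}

theorem iU_inj (hQ : Quo τ q G' π) : Function.Injective hQ.iU := by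
  rw [injective_iff_map_eq_one]
  intro x hx
  have h1 : π ⟨x.1, hQ.UJ_le x.2⟩ = 1 := congrArg Subtype.val hx
  exact Subtype.ext (dia_uni_eq_one (hQ.kerD _ h1) x.2.1)

/-- `UJ` is isomorphic to the image of `Uni` -/
noncomputable def eU (hQ : Quo τ q G' π) : UJ n τ ≃* UQ π := MulEquiv.ofBijective hQ.iU ⟨hQ.iU_inj, hQ.iU_surj⟩

theorem eU_apply (hQ : Quo τ q G' π) (u : UJ n τ) : hQ.eU u = hQ.iU u := rfl

/-- an element of the normaliser of `U` in `N` lies in `T` -/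
theorem mem_T_of_norm (hQ : Quo τ q G' π) (m : H) (hm : m ∈ NQ π) (hU : ∀ u ∈ UQ π, m * u * m⁻¹ ∈ UQ π) :
    m ∈ TQ π := by
  obtain ⟨m, ⟨ρ, hm⟩, rfl⟩ := hm
  replace hm : IsMon ρ m.1 := hm
  have key : ∀ x : UJ n τ, m.1 * x.1 * m.1⁻¹ ∈ Uni n K := by
    intro x
    have h1 := hU _ (hQ.iU x).2
    rw [iU_coe, ← map_inv, ← map_mul, ← map_mul] at h1
    obtain ⟨v, hv, e⟩ := h1
    set w : G' := ⟨x.1, hQ.UJ_le x.2⟩ with hw
    have hz : π (m * w * m⁻¹ * v⁻¹) = 1 := by rw [map_mul, ← e, map_inv, mul_inv_cancel]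
    have hB : m⁻¹⁻¹ * w * m⁻¹ ∈ hQ.sys0.B := by
      have e2 : m⁻¹⁻¹ * w * m⁻¹ = (m * w * m⁻¹ * v⁻¹) * v := by group
      rw [e2]
      exact mul_mem (hQ.sys0.T_le (hQ.kerD _ hz)) (hQ.sys0.U_le hv)
    have h2 := hQ.sys0.conj_mem_U (n := m⁻¹) (u := w) x.2.1 hB
    rw [inv_inv] at h2
    exact h2
  have hlt : ∀ i j : Fin n, j.val = i.val + 1 → ρ i < ρ j := by
    intro i j hij
    obtain ⟨x, hx, hx0⟩ := exists_xr hQ.fr hij
    have hne : i ≠ j := by rintro rfl; omega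
    by_contra hcon
    have h1 : ρ j < ρ i := lt_of_le_of_ne (not_lt.1 hcon) (fun e => hne (ρ.injective e).symm)
    have h2 := uni_en_of_lt (key ⟨x, hx⟩) h1
    rw [hm.conj_en] at h2
    have h3 := (mul_eq_zero.1 h2).resolve_right (inv_ne_zero (hm.ne_zero j))
    exact hx0 ((mul_eq_zero.1 h3).resolve_left (hm.ne_zero i))
  have hmono : StrictMono ρ := by
    intro i j hij
    obtain ⟨d, hd⟩ : ∃ d, j.val = i.val + 1 + d := ⟨j.val - i.val - 1, by
      have : i.val < j.val := hij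
      omega⟩
    induction d generalizing j with
    | zero => exact hlt i j (by omega)
    | succ d ih =>
      have hj := j.2
      have h3 := ih (j := ⟨j.val - 1, by omega⟩) (by change i.val < j.val - 1; omega) (by change j.val - 1 = _; omega)
      exact h3.trans (hlt ⟨j.val - 1, by omega⟩ j (by change j.val = j.val - 1 + 1; omega))
  have h1 : ρ = 1 := Equiv.ext fun i => le_antisymm hmono.apply_le hmono.le_apply
  rw [h1] at hm
  exact ⟨m, hm, rfl⟩

end Quo

end Cfsg.Agent.H835.Sd
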