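import Cfsg.Agent.H835.Sd.GenU

/-!
# The torus of `GUJ` is transitive on the generic linear characters of `UJ` (S4579, TL-5)
-/

set_option autoImplicit false

namespace Cfsg.Agent.H835.Sd

open Matrix

variable {n : ℕ} {K : Type*} [Field K] [Finite K] {τ : K →+* K} {q : ℕ}

theorem trans (h : Frob τ q) (hn : 1 ≤ n) {ψ ψ' : UJ n τ →* ℂˣ} (hψ : Gen h ψ) (hψ' : Gen h ψ') :
    ∃ (t : GL (Fin n) K) (ht : t ∈ Dia n K) (ht' : t ∈ GUJ n τ), ψ' = cj ψ ht ht' := by
  have hb : ∀ k : ℕ, ∃ b : Kˣ, ∀ (hk : k + 1 < n) (a : K),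
      ψ' (xe h ⟨k, by omega⟩ ⟨k + 1, hk⟩ a) = ψ (xe h ⟨k, by omega⟩ ⟨k + 1, hk⟩ (b * a)) := by
    intro k
    by_cases hk : k + 1 < n
    · obtain ⟨b, hb0, hb⟩ := exists_shift (ac_ne h hψ (i := ⟨k, by omega⟩) (j := ⟨k + 1, hk⟩) rfl)
        (ac_ne h hψ' (i := ⟨k, by omega⟩) (j := ⟨k + 1, hk⟩) rfl)
      refine ⟨Units.mk0 b hb0, fun _ a => ?_⟩
      apply Units.ext
      have := hb a
      rw [ac_apply, ac_apply] at this
      exact this
    · exact ⟨1, fun hk' => absurd hk' hk⟩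
  choose β hβ using hb
  have rel : ∀ k : ℕ, k + 1 < n → tu τ (β (n - 2 - k)) = β k := by
    intro k hk
    have hne := ac_ne h hψ (i := ⟨k, by omega⟩) (j := ⟨k + 1, hk⟩) rfl
    apply Units.ext
    refine shift_unique hne fun c => ?_
    rw [ac_apply, ac_apply]
    have hlt : (⟨k, by omega⟩ : Fin n) < ⟨k + 1, hk⟩ := by change k < k + 1; omega
    have e1 : (⟨k + 1, hk⟩ : Fin n).rev = ⟨n - 2 - k, by omega⟩ := by
      apply Fin.ext; rw [Fin.val_rev]; change n - (k + 1 + 1) = n - 2 - k; omega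
    have e2 : (⟨k, by omega⟩ : Fin n).rev = ⟨n - 2 - k + 1, by omega⟩ := by
      apply Fin.ext; rw [Fin.val_rev]; change n - (k + 1) = n - 2 - k + 1; omega
    have h1 := hβ (n - 2 - k) (by omega) (-τ c)
    rw [← e1, ← e2, xe_rev h hlt, xe_rev h hlt, hβ k hk, map_neg, h.invol, neg_neg, map_mul, map_neg, h.invol,
      mul_neg, neg_neg] at h1
    rw [h1]
    rfl
  let B : ℕ → Kˣ := fun k => ∏ m ∈ Finset.range k, β m
  have B0 : B 0 = 1 := Finset.prod_range_zero _
  have Bs : ∀ k, B (k + 1) = B k * β k := fun k => Finset.prod_range_succ _ _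
  have C : ∀ k, k ≤ n - 1 → B k * tu τ (B (n - 1 - k)) = tu τ (B (n - 1)) := by
    intro k
    induction k with
    | zero => intro _; rw [B0, one_mul, Nat.sub_zero]
    | succ k ih =>
      intro hk
      have h1 := ih (by omega)
      rw [show n - 1 - k = n - 1 - (k + 1) + 1 by omega, Bs, map_mul,
        show n - 1 - (k + 1) = n - 2 - k by omega, rel k (by omega)] at h1
      rw [Bs, show n - 1 - (k + 1) = n - 2 - k by omega, ← h1]
      rw [mul_assoc, mul_comm (β k)]
  have hfix : tu τ (B (n - 1)) = B (n - 1) := by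
    have h1 := C (n - 1) le_rfl
    rw [Nat.sub_self, B0, map_one, mul_one] at h1
    exact h1.symm
  obtain ⟨x, hx0, hx⟩ := h.exists_norm (b := (B (n - 1) : K)) (Units.ne_zero _) (congrArg Units.val hfix)
  let t : Fin n → Kˣ := fun i => Units.mk0 x hx0 * (B i.val)⁻¹
  have ht' : dg t ∈ GUJ n τ := by
    rw [dg_mem_GUJ]
    intro i
    have h1 := C i.val (by have := i.2; omega)
    rw [hfix] at h1
    have h2 : Units.mk0 x hx0 * tu τ (Units.mk0 x hx0) = B (n - 1) := Units.ext hx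
    have h3 : t i * tu τ (t i.rev) = 1 := by
      have e : i.rev.val = n - 1 - i.val := by rw [Fin.val_rev]; omega
      change Units.mk0 x hx0 * (B i.val)⁻¹ * tu τ (Units.mk0 x hx0 * (B i.rev.val)⁻¹) = 1
      rw [e, map_mul, map_inv, mul_mul_mul_comm, h2, ← mul_inv, h1, mul_inv_cancel]
    exact congrArg Units.val h3
  refine ⟨dg t, dg_mem t, ht', psi_ext h _ _ fun i j a hij => ?_⟩
  rw [cj_xe h ψ _ ht' hij]
  obtain ⟨k, hk⟩ := i
  obtain ⟨l, hl⟩ := j
  change l = k + 1 at hij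
  subst hij
  rw [hβ k hl a]
  congr 3
  have e : t ⟨k, hk⟩ * (t ⟨k + 1, hl⟩)⁻¹ = β k := by
    change Units.mk0 x hx0 * (B k)⁻¹ * (Units.mk0 x hx0 * (B (k + 1))⁻¹)⁻¹ = β k
    rw [Bs, mul_inv, inv_inv, mul_mul_mul_comm, mul_inv_cancel, one_mul, inv_mul_cancel_left]
  rw [dg_self, dg_self, ← Units.val_inv_eq_inv_val, ← Units.val_mul, e]

/-- the linear character with coefficients `c` -/
noncomputable def lc (τ : K →+* K) (φ : Multiplicative K →* ℂˣ) (c : Fin n → K) : UJ n τ →* ℂˣ where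
  toFun u := φ (Multiplicative.ofAdd (∑ p ∈ Finset.univ.filter (fun p : Fin n × Fin n => p.2.val = p.1.val + 1),
    c p.1 * u.1.1 p.1 p.2))
  map_one' := by
    rw [Finset.sum_eq_zero, ofAdd_zero, map_one]
    intro p hp
    have h1 := (Finset.mem_filter.1 hp).2
    change c p.1 * (1 : GL (Fin n) K).1 p.1 p.2 = 0
    rw [en_one, if_neg (by intro e; rw [← e] at h1; omega), mul_zero]
  map_mul' u v := by
    rw [← map_mul, ← ofAdd_add, ← Finset.sum_add_distrib]
    congr 2
    refine Finset.sum_congr rfl fun p hp => ?_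
    have h1 := (Finset.mem_filter.1 hp).2
    have hlt : p.1 < p.2 := by change p.1.val < p.2.val; omega
    rw [Subgroup.coe_mul, Lv.mul_en u.2.1 v.2.1 (Lv.zero_one _) hlt h1.le, mul_add]

theorem lc_xe (h : Frob τ q) (φ : Multiplicative K →* ℂˣ) (c : Fin n → K) {i j : Fin n}
    (hij : j.val = i.val + 1) (a : K) :
    lc τ φ c (xe h i j a) = φ (Multiplicative.ofAdd (c i * a - c j.rev * τ a)) := by
  change φ _ = φ _
  congr 2
  have e : ∀ p ∈ Finset.univ.filter (fun p : Fin n × Fin n => p.2.val = p.1.val + 1),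
      c p.1 * (xe h i j a).1.1 p.1 p.2 = (if i = p.1 ∧ j = p.2 then c p.1 * a else 0) -
        (if j.rev = p.1 ∧ i.rev = p.2 then c p.1 * τ a else 0) := by
    intro p hp
    rw [xe_en h le_rfl hij a (Finset.mem_filter.1 hp).2, Xm_en]
    split_ifs <;> ring
  rw [Finset.sum_congr rfl e, Finset.sum_sub_distrib]
  congr 1
  · rw [Finset.sum_eq_single (i, j)]
    · rw [if_pos ⟨rfl, rfl⟩]
    · rintro ⟨r, s⟩ - hab
      rw [if_neg]
      rintro ⟨rfl, rfl⟩; exact hab rfl
    · intro h6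
      exact absurd (Finset.mem_filter.2 ⟨Finset.mem_univ (i, j), hij⟩) h6
  · rw [Finset.sum_eq_single (j.rev, i.rev)]
    · rw [if_pos ⟨rfl, rfl⟩]
    · rintro ⟨r, s⟩ - hab
      rw [if_neg]
      rintro ⟨rfl, rfl⟩; exact hab rfl
    · intro h6
      refine absurd (Finset.mem_filter.2 ⟨Finset.mem_univ (j.rev, i.rev), ?_⟩) h6
      change (i.rev).val = (j.rev).val + 1
      rw [Fin.val_rev, Fin.val_rev]
      have := j.2
      omega

/-- generic characters exist -/
theorem exists_gen (h : Frob τ q) : ∃ ψ : UJ n τ →* ℂˣ, Gen h ψ := by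
  obtain ⟨φ, hφ⟩ := CommGroup.exists_apply_ne_one_of_hasEnoughRootsOfUnity (Multiplicative K) ℂ
    (a := Multiplicative.ofAdd (1 : K)) (by
      intro e
      have := congrArg Multiplicative.toAdd e
      exact one_ne_zero this)
  obtain ⟨a₀, ha₀⟩ := h.exists_ne
  have hd : a₀ - τ a₀ ≠ 0 := sub_ne_zero.2 ha₀
  let c : Fin n → K := fun r => if 2 * r.val + 2 < n then 1 else if 2 * r.val + 2 = n then (a₀ - τ a₀)⁻¹ else 0
  refine ⟨lc τ φ c, fun i j hij => ?_⟩
  have hj := j.2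
  have hjr : (j.rev).val = n - 2 - i.val := by rw [Fin.val_rev, hij]; omega
  rcases lt_trichotomy (2 * i.val + 2) n with h1 | h1 | h1
  · refine ⟨1, ?_⟩
    rw [lc_xe h φ c hij]
    have e1 : c i = 1 := if_pos h1
    have e2 : c j.rev = 0 := by
      change (if 2 * (j.rev).val + 2 < n then (1 : K) else _) = 0
      rw [if_neg (by omega), if_neg (by omega)]
    rw [e1, e2, one_mul, zero_mul, sub_zero]
    exact hφ
  · refine ⟨a₀, ?_⟩
    rw [lc_xe h φ c hij]
    have e0 : j.rev = i := by apply Fin.ext; omega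
    have e1 : c i = (a₀ - τ a₀)⁻¹ := by
      change (if 2 * i.val + 2 < n then (1 : K) else _) = _
      rw [if_neg (by omega), if_pos h1]
    rw [e0, e1, ← mul_sub, inv_mul_cancel₀ hd]
    exact hφ
  · refine ⟨-1, ?_⟩
    rw [lc_xe h φ c hij]
    have e1 : c i = 0 := by
      change (if 2 * i.val + 2 < n then (1 : K) else _) = 0
      rw [if_neg (by omega), if_neg (by omega)]
    have e2 : c j.rev = 1 := by
      change (if 2 * (j.rev).val + 2 < n then (1 : K) else _) = 1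
      rw [if_pos (by omega)]
    rw [e1, e2, zero_mul, one_mul, map_neg, map_one, zero_sub, neg_neg]
    exact hφ

end Cfsg.Agent.H835.Sd
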