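import Cfsg.Agent.H835.Sd.Trans

/-!
# The Weyl group of `GUJ` and generic characters (S4579, TL-5)
-/

set_option autoImplicit false

namespace Cfsg.Agent.H835.Sd

open Matrix

variable {n : ℕ} {K : Type*} [Field K]

theorem pinv_self (π : Equiv.Perm (Fin n)) (i : Fin n) : π⁻¹ (π i) = i := π.symm_apply_apply i

theorem self_pinv (π : Equiv.Perm (Fin n)) (i : Fin n) : π (π⁻¹ i) = i := π.apply_symm_apply i

/-- `π` commutes with `rev` -/
def CR (π : Equiv.Perm (Fin n)) : Prop := ∀ i : Fin n, π i.rev = (π i).rev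

theorem CR.inv {π : Equiv.Perm (Fin n)} (h : CR π) : CR π⁻¹ := by
  intro i
  apply π.injective
  rw [h, self_pinv, self_pinv]

theorem CR.mul {π ρ : Equiv.Perm (Fin n)} (h : CR π) (h' : CR ρ) : CR (π * ρ) := by
  intro i
  rw [Equiv.Perm.mul_apply, Equiv.Perm.mul_apply, h', h]

/-- the permutation matrix -/
noncomputable def PM (K : Type*) [Field K] (π : Equiv.Perm (Fin n)) : GL (Fin n) K :=
  Cfsg.Agent.H139.Bruhat.permGL K n π

theorem PM_en (π : Equiv.Perm (Fin n)) (i j : Fin n) : (PM K π).1 i j = if i = π j then 1 else 0 := by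
  change (Cfsg.Agent.H139.Bruhat.permGL K n π : GL (Fin n) K).1 i j = _
  rw [Cfsg.Agent.H139.Bruhat.coe_permGL, Equiv.Perm.permMatrix, PEquiv.toMatrix_apply]
  have : j ∈ ((Equiv.toPEquiv (π⁻¹ : Equiv.Perm (Fin n))) i) ↔ i = π j := by
    rw [Equiv.toPEquiv_apply, Option.mem_some_iff]
    constructor
    · rintro rfl; simp
    · rintro rfl; simp
  by_cases h : i = π j
  · rw [if_pos h, if_pos (this.2 h)]
  · rw [if_neg h, if_neg (fun h' => h (this.1 h'))]

theorem PM_isMon (π : Equiv.Perm (Fin n)) : IsMon π (PM K π) := fun i j h => by rw [PM_en, if_neg h]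

theorem PM_inv (π : Equiv.Perm (Fin n)) : (PM K π)⁻¹ = PM K π⁻¹ := (map_inv _ _).symm

theorem PM_mem {τ : K →+* K} {π : Equiv.Perm (Fin n)} (h : CR π) : PM K π ∈ GUJ n τ := by
  rw [mem_GUJ_iff_sg]
  apply Units.ext
  ext i j
  rw [sg_en, PM_inv, PM_en, PM_en]
  by_cases h1 : i = π j
  · rw [if_pos h1, if_pos (by rw [h1, h.inv, pinv_self]), map_one]
  · rw [if_neg h1, if_neg, map_zero]
    intro h2
    apply h1
    rw [h.inv] at h2
    have h3 := Fin.rev_injective h2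
    rw [h3, self_pinv]

/-- the determinant of an element of `GUJ` -/
theorem det_sh (τ : K →+* K) (A : Matrix (Fin n) (Fin n) K) : (sh τ A).det = τ A.det := by
  have e : sh τ A = ((τ.mapMatrix A).transpose).submatrix Fin.revPerm Fin.revPerm := by
    ext i j
    rfl
  rw [e, Matrix.det_submatrix_equiv_self, det_transpose, RingHom.map_det]

theorem det_norm {τ : K →+* K} {g : GL (Fin n) K} (hg : g ∈ GUJ n τ) : g.1.det * τ g.1.det = 1 := by
  rw [← det_sh, ← det_mul, mem_GUJ.1 hg, det_one]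

theorem det_ne (g : GL (Fin n) K) : g.1.det ≠ 0 :=
  ((Matrix.isUnit_iff_isUnit_det _).1 g.isUnit).ne_zero

variable [Finite K] {τ : K →+* K} {q : ℕ}

/-- every element of norm one is the determinant of `dg (hd τ i x)` -/
theorem exists_hd (h : Frob τ q) {i : Fin n} (hi : i ≠ i.rev) {b : K} (hb : b * τ b = 1) :
    ∃ x : Kˣ, (dg (hd τ i x)).1.det = b := by
  obtain ⟨x, hx0, hx⟩ := h.exists_h90 hb
  refine ⟨Units.mk0 x hx0, ?_⟩
  rw [dg_det', hd_prod τ hi, Units.val_mul, Units.val_inv_eq_inv_val]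
  exact hx

/-- a representative in `SUJ` of every element of the Weyl group -/
theorem exists_rep (h : Frob τ q) (hn : 2 ≤ n) {π : Equiv.Perm (Fin n)} (hπ : CR π) :
    ∃ m ∈ SUJ n τ, IsMon π m := by
  have hi : (⟨0, by omega⟩ : Fin n) ≠ (⟨0, by omega⟩ : Fin n).rev := by
    intro e
    have := congrArg Fin.val e
    rw [Fin.val_rev] at this
    change 0 = n - (0 + 1) at this
    omega
  obtain ⟨x, hx⟩ := exists_hd h hi (det_norm ((GUJ n τ).inv_mem (PM_mem (K := K) (τ := τ) hπ)))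
  refine ⟨PM K π * dg (hd τ ⟨0, by omega⟩ x), mem_SUJ.2
    ⟨(GUJ n τ).mul_mem (PM_mem hπ) (dg_hd_mem h.invol hi x), ?_⟩, ?_⟩
  · rw [Units.val_mul, det_mul, hx, ← det_mul, Units.mul_inv, det_one]
  · have := (PM_isMon (K := K) π).mul (mem_Dia_iff.1 (dg_mem (hd τ ⟨0, by omega⟩ x)))
    rwa [mul_one] at this

/-- `ψ` is trivial on `U ∩ m U m⁻¹` -/
def TrivJ (ψ : UJ n τ →* ℂˣ) (m : GL (Fin n) K) : Prop := ∀ u : UJ n τ, m⁻¹ * u.1 * m ∈ Uni n K → ψ u = 1

omit [Finite K] in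
theorem conj_inv_en {π : Equiv.Perm (Fin n)} {m : GL (Fin n) K} (hm : IsMon π m) (a : GL (Fin n) K) (k l : Fin n) :
    ∃ c : K, c ≠ 0 ∧ ∃ d : K, d ≠ 0 ∧ (m⁻¹ * a * m).1 (π⁻¹ k) (π⁻¹ l) = c * a.1 k l * d ∧ (k = l → c * d = 1) := by
  have h1 := hm.inv.conj_en a k l
  rw [inv_inv] at h1
  refine ⟨_, hm.inv.ne_zero k, _, inv_ne_zero (hm.inv.ne_zero l), h1, ?_⟩
  rintro rfl
  exact mul_inv_cancel₀ (hm.inv.ne_zero k)

omit [Finite K] in
theorem triv_rev (ψ : UJ n τ →* ℂˣ) {m : GL (Fin n) K} (hm : IsMon (rv n) m) : TrivJ ψ m := by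
  intro u hu
  have h1 : u = 1 := by
    apply Subtype.ext
    apply Units.ext
    ext k l
    change u.1.1 k l = (1 : GL (Fin n) K).1 k l
    rw [en_one]
    rcases le_or_gt l k with h2 | h2
    · exact u.2.1 k l h2
    · rw [if_neg h2.ne]
      obtain ⟨c, hc, d, hd, e, -⟩ := conj_inv_en hm u.1 k l
      have h3 : (rv n)⁻¹ l < (rv n)⁻¹ k := Fin.rev_lt_rev.2 h2
      rw [uni_en_of_lt hu h3] at e
      have h4 := (mul_eq_zero.1 e.symm).resolve_right hd
      exact (mul_eq_zero.1 h4).resolve_left hc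
  rw [h1, map_one]

/-- a generic character is trivial on `U ∩ m U m⁻¹` only for the longest element -/
theorem eq_rev_of_triv (h : Frob τ q) {ψ : UJ n τ →* ℂˣ} (hψ : Gen h ψ) {π : Equiv.Perm (Fin n)} (hπ : CR π)
    {m : GL (Fin n) K} (hm : IsMon π m) (ht : TrivJ ψ m) : π = rv n := by
  -- `π⁻¹` is strictly decreasing
  have h1 : ∀ i j : Fin n, j.val = i.val + 1 → π⁻¹ j < π⁻¹ i := by
    intro i j hij
    by_contra hcon
    have hne : i ≠ j := by rintro rfl; omega
    have hlt : i < j := by change i.val < j.val; omega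
    have h2 : π⁻¹ i < π⁻¹ j := lt_of_le_of_ne (not_lt.1 hcon) (fun e => hne (π⁻¹.injective e))
    obtain ⟨a, ha⟩ := hψ i j hij
    apply ha
    apply ht
    intro r s hrs
    obtain ⟨k, rfl⟩ := (π⁻¹ : Equiv.Perm (Fin n)).surjective r
    obtain ⟨l, rfl⟩ := (π⁻¹ : Equiv.Perm (Fin n)).surjective s
    obtain ⟨c, hc, d, hd, e, hcd⟩ := conj_inv_en hm (xe h i j a).1 k l
    have h3 : (xe h i j a).1.1 k l = if k = l then 1 else 0 := by
      rw [xe_val h hlt]
      refine xr_supp h.two_ne_zero hlt.ne a (r := fun k l => π⁻¹ k < π⁻¹ l) (fun _ _ _ => lt_trans) h2 ?_ k l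
        hrs.not_gt
      change π⁻¹ j.rev < π⁻¹ i.rev
      rw [hπ.inv, hπ.inv]
      exact Fin.rev_lt_rev.2 h2
    rw [e, h3]
    by_cases hkl : k = l
    · rw [if_pos hkl, if_pos (by rw [hkl]), mul_one, hcd hkl]
    · rw [if_neg hkl, if_neg (fun e' => hkl (π⁻¹.injective e')), mul_zero, zero_mul]
  have h2 : ∀ i j : Fin n, i < j → π⁻¹ j < π⁻¹ i := by
    intro i j hij
    obtain ⟨d, hd⟩ : ∃ d, j.val = i.val + 1 + d := ⟨j.val - i.val - 1, by
      have : i.val < j.val := hij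
      omega⟩
    induction d generalizing j with
    | zero => exact h1 i j (by omega)
    | succ d ih =>
      have hj := j.2
      have h3 := ih ⟨j.val - 1, by omega⟩ (by change i.val < j.val - 1; omega) (by change j.val - 1 = _; omega)
      exact (h1 ⟨j.val - 1, by omega⟩ j (by change j.val = j.val - 1 + 1; omega)).trans h3
  -- hence equal to `rev`
  have h3 : StrictMono fun i : Fin n => (π⁻¹ i).rev := fun i j hij => Fin.rev_lt_rev.2 (h2 i j hij)
  have h4 : ∀ i : Fin n, (π⁻¹ i).rev = i := by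
    intro i
    exact le_antisymm h3.apply_le h3.le_apply
  ext i
  have h5 := h4 (π i)
  rw [pinv_self] at h5
  rw [← h5]
  rfl

end Cfsg.Agent.H835.Sd
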